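import Mathlib.RingTheory.DividedPowers.DPMorphism
import Mathlib.RingTheory.Ideal.Quotient.Operations
import Mathlib.RingTheory.AdicCompletion.Algebra
import Mathlib.Tactic.Ring

/-!
# Divided powers on the `p`-adic completion
-/

universe u

namespace Groth.Agent.DPow95.Completion

variable {A : Type u} [CommRing A] {I : Ideal A} (γ : DividedPowers I) (x : A) (t : ℕ)
  (ht : Ideal.span {x} ^ t ≤ I)
include ht

/-- `γ n` is continuous for the `x`-adic topology, with shift `t`. -/
theorem cont (n N : ℕ) (a b : A) (ha : a ∈ I) (hb : b ∈ I) (hab : a - b ∈ Ideal.span {x} ^ (N + t)) :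
    γ.dpow n a - γ.dpow n b ∈ Ideal.span {x} ^ N := by
  obtain ⟨c, hc⟩ : ∃ c, a - b = x ^ N * (x ^ t * c) := by
    rw [Ideal.span_singleton_pow, Ideal.mem_span_singleton'] at hab
    obtain ⟨c, hc⟩ := hab
    exact ⟨c, by rw [← hc, pow_add]; ring⟩
  have hpc : x ^ t * c ∈ I :=
    Ideal.mul_mem_right _ _ (ht (Ideal.pow_mem_pow (Ideal.mem_span_singleton_self x) t))
  rw [← Ideal.Quotient.eq, show a = b + (a - b) by ring, hc,
    γ.dpow_add hb (Ideal.mul_mem_left _ _ hpc), map_sum, Finset.sum_eq_single (n, 0)]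
  · rw [γ.dpow_zero (Ideal.mul_mem_left _ _ hpc), mul_one]
  · rintro ⟨i, j⟩ hij hne
    rw [Finset.HasAntidiagonal.mem_antidiagonal] at hij
    have hj : j ≠ 0 := fun h => hne (by simp only [h, add_zero] at hij; simp [h, hij])
    rw [γ.dpow_mul hpc, map_mul, map_mul]
    refine mul_eq_zero_of_right _ (mul_eq_zero_of_left (Ideal.Quotient.eq_zero_iff_mem.2 ?_) _)
    exact Ideal.pow_mem_of_mem _ (Ideal.pow_mem_pow (Ideal.mem_span_singleton_self x) N) j (Nat.pos_of_ne_zero hj)
  · simp

theorem exists_dividedPowers :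
    ∃ δ : DividedPowers (RingHom.ker ((Ideal.Quotient.factor ht).comp
        (AdicCompletion.evalₐ (Ideal.span {x}) t).toRingHom)),
      γ.IsDPMorphism δ (algebraMap A (AdicCompletion (Ideal.span {x}) A)) := by
  classical
  let q : Ideal A := Ideal.span {x}
  let C := AdicCompletion q A
  let ev : ∀ N, C →ₐ[A] A ⧸ q ^ N := AdicCompletion.evalₐ q
  let π : C →+* A ⧸ I := (Ideal.Quotient.factor ht).comp (ev t).toRingHom
  have hev : ∀ N (a : A), ev N (algebraMap A C a) = Ideal.Quotient.mk _ a := fun N a => (ev N).commutes a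
  have hrep : ∀ z : C, ∃ a : ℕ → A, (∀ N, ev N z = Ideal.Quotient.mk _ (a N)) ∧
      ∀ M N, M ≤ N → ev M z = Ideal.Quotient.mk _ (a N) := by
    intro z
    obtain ⟨a, rfl⟩ := AdicCompletion.mk_surjective q A z
    exact ⟨a.val, fun N => AdicCompletion.evalₐ_mk q N a, fun M N h =>
      (AdicCompletion.evalₐ_mk q M a).trans (AdicCompletion.Ideal.mk_eq_mk q h a).symm⟩
  choose rep hrep hmono using hrep
  have hmem : ∀ z : C, π z = 0 → ∀ N, t ≤ N → rep z N ∈ I := fun z hz N hN => by
    have h : Ideal.Quotient.factor ht (ev t z) = 0 := hz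
    rwa [hmono z t N hN, Ideal.Quotient.factor_mk, Ideal.Quotient.eq_zero_iff_mem] at h
  have hexw : ∀ (n : ℕ) (z : C), π z = 0 →
      ∃ w : C, ∀ N, ev N w = Ideal.Quotient.mk (q ^ N) (γ.dpow n (rep z (N + t))) := by
    intro n z hz
    have hs : AdicCompletion.IsAdicCauchy q A fun N => γ.dpow n (rep z (N + t)) := by
      intro M N h
      rw [SModEq.sub_mem]
      simp only [smul_eq_mul, Ideal.mul_top]
      refine cont γ x t ht n M _ _ (hmem z hz _ (Nat.le_add_left t M)) (hmem z hz _ (Nat.le_add_left t N))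
        (Ideal.Quotient.eq.1 ?_)
      rw [← hmono z _ _ le_rfl, ← hmono z _ _ (Nat.add_le_add_right h t)]
    exact ⟨AdicCompletion.mk q A ⟨_, hs⟩, fun N => AdicCompletion.evalₐ_mk q N _⟩
  choose! w hw using hexw
  let d : ℕ → C → C := fun n z => if π z = 0 then w n z else 0
  have hd : ∀ (n : ℕ) (z : C), π z = 0 → ∀ (N : ℕ) (a : A), a ∈ I →
      ev (N + t) z = Ideal.Quotient.mk _ a → ev N (d n z) = Ideal.Quotient.mk _ (γ.dpow n a) := by
    intro n z hz N a ha he
    rw [show d n z = w n z from if_pos hz, hw n z hz, Ideal.Quotient.eq]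
    exact cont γ x t ht n N _ _ (hmem z hz _ (Nat.le_add_left t N)) ha
      (Ideal.Quotient.eq.1 ((hrep z (N + t)).symm.trans he))
  have hd' : ∀ (n : ℕ) (z : C), π z = 0 → ∀ N, ev N (d n z) = Ideal.Quotient.mk _ (γ.dpow n (rep z (N + t))) :=
    fun n z hz N => hd n z hz N _ (hmem z hz _ (Nat.le_add_left t N)) (hrep z _)
  have hext : ∀ {a b : C}, (∀ N, ev N a = ev N b) → a = b := fun h => AdicCompletion.ext_evalₐ h
  have hker : ∀ {z : C}, z ∈ RingHom.ker π → π z = 0 := fun h => h
  have hdmem : ∀ n z, n ≠ 0 → π z = 0 → π (d n z) = 0 := by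
    intro n z hn hz
    show Ideal.Quotient.factor ht (ev t (d n z)) = 0
    rw [hd' n z hz, Ideal.Quotient.factor_mk, Ideal.Quotient.eq_zero_iff_mem]
    exact γ.dpow_mem hn (hmem z hz _ (Nat.le_add_left t t))
  refine ⟨
    { dpow := d
      dpow_null := fun {n z} h => if_neg h
      dpow_zero := fun {z} h => hext fun N => by
        rw [hd' 0 z (hker h), γ.dpow_zero (hmem z (hker h) _ (Nat.le_add_left t N)), map_one, map_one]
      dpow_one := fun {z} h => hext fun N => by
        rw [hd' 1 z (hker h), γ.dpow_one (hmem z (hker h) _ (Nat.le_add_left t N)),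
          ← hmono z N _ (Nat.le_add_right N t)]
      dpow_mem := fun {n z} hn h => hdmem n z hn (hker h)
      dpow_add := fun {n z z'} h h' => hext fun N => by
        have ha := hmem z (hker h) _ (Nat.le_add_left t N)
        have ha' := hmem z' (hker h') _ (Nat.le_add_left t N)
        rw [hd n (z + z') (by rw [map_add, hker h, hker h', add_zero]) N _ (I.add_mem ha ha')
          (by rw [map_add, map_add, hrep z, hrep z']), γ.dpow_add ha ha', map_sum, map_sum]
        refine Finset.sum_congr rfl fun k _ => ?_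
        rw [map_mul, map_mul, hd' _ z (hker h), hd' _ z' (hker h')]
      dpow_mul := fun {n a z} h => hext fun N => by
        have ha := hmem z (hker h) _ (Nat.le_add_left t N)
        rw [hd n (a * z) (by rw [map_mul, hker h, mul_zero]) N (rep a (N + t) * rep z (N + t))
          (I.mul_mem_left _ ha) (by rw [map_mul, map_mul, hrep a, hrep z]), γ.dpow_mul ha,
          map_mul, map_mul, map_pow, map_pow, hd' n z (hker h), ← hmono a N _ (Nat.le_add_right N t)]
      mul_dpow := fun {m n z} h => hext fun N => by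
        rw [map_mul, map_mul, map_natCast, hd' m z (hker h), hd' n z (hker h), hd' _ z (hker h),
          ← map_mul, γ.mul_dpow (hmem z (hker h) _ (Nat.le_add_left t N)), map_mul, map_natCast]
      dpow_comp := fun {m n z} hn h => hext fun N => by
        have ha := hmem z (hker h) (N + t + t) (Nat.le_add_left t _)
        rw [hd m (d n z) (hdmem n z hn (hker h)) N _ (γ.dpow_mem hn ha) (hd' n z (hker h) (N + t)),
          γ.dpow_comp hn ha, map_mul, map_mul, map_natCast, map_natCast,
          hd _ z (hker h) N _ ha (hmono z _ _ (Nat.le_add_right _ t))] }, ?_, fun {n} a ha => ?_⟩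
  · refine Ideal.map_le_iff_le_comap.2 fun a ha => ?_
    show Ideal.Quotient.factor ht (ev t (algebraMap A C a)) = 0
    rw [hev, Ideal.Quotient.factor_mk, Ideal.Quotient.eq_zero_iff_mem]
    exact ha
  · refine hext fun N => ?_
    have hz : π (algebraMap A C a) = 0 := by
      show Ideal.Quotient.factor ht (ev t (algebraMap A C a)) = 0
      rw [hev, Ideal.Quotient.factor_mk, Ideal.Quotient.eq_zero_iff_mem]
      exact ha
    show ev N (d n (algebraMap A C a)) = ev N (algebraMap A C (γ.dpow n a))
    rw [hd n _ hz N a ha (hev _ a), hev]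

end Groth.Agent.DPow95.Completion
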