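import Groth.Agent.DPow95.OfSpan
import Mathlib.RingTheory.DividedPowers.DPMorphism
import Mathlib.RingTheory.PowerSeries.Basic
import Mathlib.LinearAlgebra.TensorProduct.Basic
import Mathlib.RingTheory.Flat.Basic
import Mathlib.Tactic.LinearCombination

/-!
# Sums and extensions of divided power structures
-/

universe u v

open PowerSeries TensorProduct

namespace Groth.Agent.DPow95.Extend

theorem coeff_one_mul' {R : Type u} [CommRing R] (p q : PowerSeries R) :
    coeff 1 (p * q) = coeff 0 p * coeff 1 q + coeff 1 p * coeff 0 q := by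
  rw [coeff_mul, show Finset.antidiagonal 1 = {((0 : ℕ), (1 : ℕ)), (1, 0)} from rfl,
    Finset.sum_pair (by simp)]

section Sup

variable {A : Type u} [CommRing A] {I J : Ideal A} (γ : DividedPowers I) (δ : DividedPowers J)

theorem exp_zero' : γ.exp 0 = 1 := by
  ext n
  rw [DividedPowers.exp, coeff_mk, coeff_one]
  rcases eq_or_ne n 0 with rfl | hn
  · simp [γ.dpow_zero I.zero_mem]
  · simp [hn, γ.dpow_eval_zero hn]

theorem exp_mul {x : A} (hx : x ∈ I) (a : A) : γ.exp (a * x) = rescale a (γ.exp x) := by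
  ext n
  rw [coeff_rescale, DividedPowers.exp, DividedPowers.exp, coeff_mk, coeff_mk, γ.dpow_mul hx]

/-- The unique structure on `I + J`. -/
theorem exists_sup (h : ∀ (n : ℕ) (x : A), x ∈ I ⊓ J → γ.dpow n x = δ.dpow n x) :
    ∃ ε : DividedPowers (I ⊔ J),
      (∀ (n : ℕ) (x : A), x ∈ I → ε.dpow n x = γ.dpow n x) ∧
        (∀ (n : ℕ) (x : A), x ∈ J → ε.dpow n x = δ.dpow n x) := by
  classical
  have hwd : ∀ a b a' b', a ∈ I → b ∈ J → a' ∈ I → b' ∈ J → a + b = a' + b' →
      γ.exp a * δ.exp b = γ.exp a' * δ.exp b' := by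
    intro a b a' b' ha hb ha' hb' he
    have hc : a - a' = b' - b := by linear_combination he
    have hcI : a - a' ∈ I := I.sub_mem ha ha'
    have hcJ : a - a' ∈ J := hc ▸ J.sub_mem hb' hb
    have he1 : γ.exp (a - a') = δ.exp (a - a') := by
      ext n; simp only [DividedPowers.exp, coeff_mk]; exact h n _ ⟨hcI, hcJ⟩
    rw [show a = a' + (a - a') by ring, γ.exp_add ha' hcI, mul_assoc, he1,
      ← δ.exp_add hcJ hb, show a - a' + b = b' by linear_combination he]
  have hex : ∀ z ∈ I ⊔ J, ∃ a ∈ I, ∃ b ∈ J, a + b = z := fun z hz => Submodule.mem_sup.1 hz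
  choose! f hf g hg hfg using hex
  let E : A → PowerSeries A := fun z => γ.exp (f z) * δ.exp (g z)
  have hE : ∀ a b, a ∈ I → b ∈ J → E (a + b) = γ.exp a * δ.exp b := fun a b ha hb => by
    have hm : a + b ∈ I ⊔ J := Submodule.add_mem_sup ha hb
    exact hwd _ _ _ _ (hf _ hm) (hg _ hm) ha hb (hfg _ hm)
  let d : ℕ → A → A := fun n z => if z ∈ I ⊔ J then coeff n (E z) else 0
  have hd : ∀ n z, z ∈ I ⊔ J → d n z = coeff n (E z) := fun n z hz => if_pos hz
  have hdI : ∀ n x, x ∈ I → d n x = γ.dpow n x := fun n x hx => by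
    rw [hd n x (Submodule.mem_sup_left hx)]
    conv_lhs => rw [← add_zero x, hE x 0 hx J.zero_mem, exp_zero', mul_one]
    rw [DividedPowers.exp, coeff_mk]
  have hdJ : ∀ n x, x ∈ J → d n x = δ.dpow n x := fun n x hx => by
    rw [hd n x (Submodule.mem_sup_right hx)]
    conv_lhs => rw [← zero_add x, hE 0 x I.zero_mem hx, exp_zero', one_mul]
    rw [DividedPowers.exp, coeff_mk]
  have h_zero : ∀ x ∈ I ⊔ J, d 0 x = 1 := fun x hx => by
    rw [hd _ _ hx, coeff_zero_eq_constantCoeff_apply, map_mul, ← coeff_zero_eq_constantCoeff_apply,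
      ← coeff_zero_eq_constantCoeff_apply, DividedPowers.exp, DividedPowers.exp, coeff_mk, coeff_mk,
      γ.dpow_zero (hf _ hx), δ.dpow_zero (hg _ hx), one_mul]
  have h_one : ∀ x ∈ I ⊔ J, d 1 x = x := fun x hx => by
    rw [hd _ _ hx, coeff_one_mul']
    simp only [DividedPowers.exp, coeff_mk, γ.dpow_zero (hf _ hx), δ.dpow_zero (hg _ hx),
      γ.dpow_one (hf _ hx), δ.dpow_one (hg _ hx), one_mul, mul_one]
    rw [add_comm]; exact hfg _ hx
  have h_mem : ∀ (n : ℕ) (x : A), n ≠ 0 → x ∈ I ⊔ J → d n x ∈ I ⊔ J := fun n x hn hx => by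
    rw [hd _ _ hx, coeff_mul]
    refine Submodule.sum_mem _ fun k hk => ?_
    rw [Finset.HasAntidiagonal.mem_antidiagonal] at hk
    simp only [DividedPowers.exp, coeff_mk]
    rcases Nat.eq_zero_or_pos k.1 with h0 | h0
    · exact Ideal.mul_mem_left _ _ (Submodule.mem_sup_right (δ.dpow_mem (by omega) (hg _ hx)))
    · exact Ideal.mul_mem_right _ _ (Submodule.mem_sup_left (γ.dpow_mem (by omega) (hf _ hx)))
  have h_add : ∀ (n : ℕ) (x y : A), x ∈ I ⊔ J → y ∈ I ⊔ J →
      d n (x + y) = (Finset.antidiagonal n).sum fun k => d k.1 x * d k.2 y := fun n x y hx hy => by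
    have he : E (x + y) = E x * E y := by
      conv_lhs => rw [← hfg _ hx, ← hfg _ hy, add_add_add_comm,
        hE _ _ (I.add_mem (hf _ hx) (hf _ hy)) (J.add_mem (hg _ hx) (hg _ hy)),
        γ.exp_add (hf _ hx) (hf _ hy), δ.exp_add (hg _ hx) (hg _ hy)]
      simp only [E]; ring
    rw [hd _ _ (Submodule.add_mem _ hx hy), he, coeff_mul]
    exact Finset.sum_congr rfl fun k _ => by rw [hd _ _ hx, hd _ _ hy]
  have h_mul : ∀ (n : ℕ) (a x : A), x ∈ I ⊔ J → d n (a * x) = a ^ n * d n x := fun n a x hx => by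
    rw [hd _ _ (Ideal.mul_mem_left _ _ hx), hd _ _ hx, ← coeff_rescale]
    congr 1
    conv_lhs => rw [← hfg _ hx, mul_add,
      hE _ _ (I.mul_mem_left a (hf _ hx)) (J.mul_mem_left a (hg _ hx)),
      exp_mul γ (hf _ hx), exp_mul δ (hg _ hx)]
    rw [← map_mul]
  refine ⟨OfSpan.ofSpan (d := d) h_zero h_one h_mem h_add h_mul (fun n x hx => if_neg hx)
    (S := (I : Set A) ∪ J) ?_ ?_, hdI, hdJ⟩
  · rw [Ideal.span_union, Ideal.span_eq, Ideal.span_eq]
  · rintro x (hx | hx)
    · refine ⟨fun m n => ?_, fun m n hn => ?_⟩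
      · simp only [hdI _ _ hx]; exact γ.mul_dpow hx
      · simp only [hdI _ _ hx, hdI _ _ (γ.dpow_mem hn hx)]; exact γ.dpow_comp hn hx
    · refine ⟨fun m n => ?_, fun m n hn => ?_⟩
      · simp only [hdJ _ _ hx]; exact δ.mul_dpow hx
      · simp only [hdJ _ _ hx, hdJ _ _ (δ.dpow_mem hn hx)]; exact δ.dpow_comp hn hx

theorem existsUnique_sup (h : ∀ (n : ℕ) (x : A), x ∈ I ⊓ J → γ.dpow n x = δ.dpow n x) :
    ∃! ε : DividedPowers (I ⊔ J),
      (∀ (n : ℕ) (x : A), x ∈ I → ε.dpow n x = γ.dpow n x) ∧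
        (∀ (n : ℕ) (x : A), x ∈ J → ε.dpow n x = δ.dpow n x) := by
  obtain ⟨ε, h1, h2⟩ := exists_sup γ δ h
  refine ⟨ε, ⟨h1, h2⟩, fun ε' ⟨h1', h2'⟩ => ?_⟩
  refine DividedPowers.dpow_eq_from_gens ε ε' (S := (I : Set A) ∪ J)
    (by rw [Ideal.span_union, Ideal.span_eq, Ideal.span_eq]) fun {n} x hx => ?_
  rcases hx with hx | hx
  · rw [h1 n x hx, h1' n x hx]
  · rw [h2 n x hx, h2' n x hx]

end Sup

section Ext

variable {A : Type u} {B : Type v} [CommRing A] [CommRing B] [Algebra A B]
  {I : Ideal A} (γ : DividedPowers I)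

/-- Uniqueness of an extension. -/
theorem ext_unique (δ δ' : DividedPowers (I.map (algebraMap A B)))
    (h : γ.IsDPMorphism δ (algebraMap A B)) (h' : γ.IsDPMorphism δ' (algebraMap A B)) : δ = δ' := by
  refine DividedPowers.dpow_eq_from_gens δ' δ (S := algebraMap A B '' I) rfl ?_
  rintro n _ ⟨a, ha, rfl⟩
  rw [h.dpow_comp a ha, h'.dpow_comp a ha]

/-- `b ↦ x ↦ Σ bⁿ γₙ(x) Tⁿ`. -/
noncomputable def E₁ (b : B) (x : I) : PowerSeries B :=
  rescale b (PowerSeries.map (algebraMap A B) (γ.exp (x : A)))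

@[simp] theorem coeff_E₁ (b : B) (x : I) (n : ℕ) :
    coeff n (E₁ γ b x) = b ^ n * algebraMap A B (γ.dpow n (x : A)) := by
  simp [E₁, DividedPowers.exp]

/-- The exponential on `B ⊗ I`. -/
noncomputable def E : B ⊗[A] I →+ Additive (PowerSeries B) :=
  TensorProduct.liftAddHom
    ({ toFun := fun b => ({ toFun := fun x => Additive.ofMul (E₁ γ b x)
                            map_zero' := by
                              show Additive.ofMul _ = Additive.ofMul 1
                              congr 1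
                              simp [E₁, exp_zero' γ]
                            map_add' := fun x y => by
                              show Additive.ofMul _ = Additive.ofMul (_ * _)
                              congr 1
                              simp [E₁, γ.exp_add x.2 y.2] } : I →+ Additive (PowerSeries B))
       map_zero' := by
        refine AddMonoidHom.ext fun x => ?_
        show Additive.ofMul (E₁ γ 0 x) = Additive.ofMul 1
        congr 1
        ext n
        rcases eq_or_ne n 0 with rfl | hn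
        · simp [γ.dpow_zero x.2]
        · simp [hn, coeff_one]
       map_add' := fun b b' => by
        refine AddMonoidHom.ext fun x => ?_
        show Additive.ofMul (E₁ γ (b + b') x) = Additive.ofMul (E₁ γ b x * E₁ γ b' x)
        congr 1
        ext n
        simp only [coeff_mul, coeff_E₁]
        rw [(Commute.all b b').add_pow', Finset.sum_mul]
        refine Finset.sum_congr rfl fun k hk => ?_
        rw [Finset.HasAntidiagonal.mem_antidiagonal] at hk
        subst hk
        rw [mul_mul_mul_comm (b ^ k.1) _ (b' ^ k.2), ← map_mul, γ.mul_dpow x.2, map_mul, map_natCast,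
          nsmul_eq_mul]
        ring } : B →+ I →+ Additive (PowerSeries B))
    (fun r b x => by
      show Additive.ofMul (E₁ γ (r • b) x) = Additive.ofMul (E₁ γ b (r • x))
      congr 1
      ext n
      simp [γ.dpow_mul x.2, Algebra.smul_def, mul_pow]
      ring)

@[simp] theorem E_tmul (b : B) (x : I) : (E γ (b ⊗ₜ[A] x)).toMul = E₁ γ b x := rfl

variable (I) in
/-- The multiplication `B ⊗ I → B`. -/
noncomputable def mult : B ⊗[A] I →ₗ[A] B :=
  TensorProduct.lift (((LinearMap.mul A B).compl₂ ((Algebra.linearMap A B).comp I.subtype)))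

@[simp] theorem mult_tmul (b : B) (x : I) : mult I (b ⊗ₜ[A] x) = b * algebraMap A B (x : A) := rfl

theorem coeff_zero_E (t : B ⊗[A] I) : coeff 0 (E γ t).toMul = 1 := by
  induction t using TensorProduct.induction_on with
  | zero => simp
  | tmul b x => simp [γ.dpow_zero x.2]
  | add s t hs ht =>
    rw [map_add, toMul_add, coeff_mul, Finset.Nat.antidiagonal_zero, Finset.sum_singleton, hs, ht,
      one_mul]

theorem coeff_one_E (t : B ⊗[A] I) : coeff 1 (E γ t).toMul = mult I t := by
  induction t using TensorProduct.induction_on with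
  | zero => simp
  | tmul b x => simp [γ.dpow_one x.2]
  | add s t hs ht =>
    rw [map_add, toMul_add, coeff_one_mul', map_add, coeff_zero_E, coeff_zero_E, hs, ht, one_mul,
      mul_one, add_comm]

theorem coeff_mem_E (t : B ⊗[A] I) (n : ℕ) (hn : n ≠ 0) :
    coeff n (E γ t).toMul ∈ I.map (algebraMap A B) := by
  induction t using TensorProduct.induction_on generalizing n with
  | zero => simp [coeff_one, hn]
  | tmul b x =>
    rw [E_tmul, coeff_E₁]
    exact Ideal.mul_mem_left _ _ (Ideal.mem_map_of_mem _ (γ.dpow_mem hn x.2))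
  | add s t hs ht =>
    rw [map_add, toMul_add, coeff_mul]
    refine Submodule.sum_mem _ fun k hk => ?_
    rw [Finset.HasAntidiagonal.mem_antidiagonal] at hk
    rcases Nat.eq_zero_or_pos k.1 with h0 | h0
    · exact Ideal.mul_mem_left _ _ (ht _ (by omega))
    · exact Ideal.mul_mem_right _ _ (hs _ (by omega))

theorem E_smul (a : B) (t : B ⊗[A] I) :
    (E γ (a • t)).toMul = rescale a (E γ t).toMul := by
  induction t using TensorProduct.induction_on with
  | zero => simp
  | tmul b x =>
    rw [TensorProduct.smul_tmul', E_tmul, E_tmul]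
    ext n
    simp [mul_pow]; ring
  | add s t hs ht => rw [smul_add, map_add (E γ), map_add (E γ), toMul_add, toMul_add, map_mul, hs, ht]

theorem mult_smul (a : B) (t : B ⊗[A] I) : mult I (a • t) = a * mult I t := by
  induction t using TensorProduct.induction_on with
  | zero => simp
  | tmul b x => rw [TensorProduct.smul_tmul', mult_tmul, mult_tmul, smul_eq_mul, mul_assoc]
  | add s t hs ht => rw [smul_add, map_add, map_add, hs, ht, mul_add]

theorem mem_map_iff (z : B) : z ∈ I.map (algebraMap A B) ↔ ∃ t, mult I t = z := by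
  constructor
  · intro hz
    induction hz using Submodule.span_induction with
    | mem y hy =>
      obtain ⟨a, ha, rfl⟩ := hy
      exact ⟨1 ⊗ₜ[A] ⟨a, ha⟩, by simp⟩
    | zero => exact ⟨0, map_zero _⟩
    | add y z _ _ hy hz =>
      obtain ⟨s, rfl⟩ := hy; obtain ⟨t, rfl⟩ := hz
      exact ⟨s + t, map_add _ _ _⟩
    | smul a y _ hy =>
      obtain ⟨t, rfl⟩ := hy
      exact ⟨a • t, mult_smul a t⟩
  · rintro ⟨t, rfl⟩
    induction t using TensorProduct.induction_on with
    | zero => simp
    | tmul b x => exact Ideal.mul_mem_left _ _ (Ideal.mem_map_of_mem _ x.2)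
    | add s t hs ht => rw [map_add]; exact Submodule.add_mem _ hs ht

/-- The divided powers extend to `I B` when the exponential kills the kernel of `B ⊗ I → B`. -/
theorem exists_extension (hker : ∀ t : B ⊗[A] I, mult I t = 0 → (E γ t).toMul = 1) :
    ∃ δ : DividedPowers (I.map (algebraMap A B)), γ.IsDPMorphism δ (algebraMap A B) := by
  classical
  have hwd : ∀ s t : B ⊗[A] I, mult I s = mult I t → (E γ s).toMul = (E γ t).toMul := fun s t h => by
    rw [← sub_add_cancel s t, map_add (E γ), toMul_add, hker (s - t) (by rw [map_sub, h, sub_self]),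
      one_mul]
  have hex : ∀ z ∈ I.map (algebraMap A B), ∃ t, mult I t = z := fun z hz => (mem_map_iff z).1 hz
  choose! f hf using hex
  let d : ℕ → B → B := fun n z => if z ∈ I.map (algebraMap A B) then coeff n (E γ (f z)).toMul else 0
  have hd : ∀ n z t, z ∈ I.map (algebraMap A B) → mult I t = z → d n z = coeff n (E γ t).toMul :=
    fun n z t hz ht => (if_pos hz).trans (by rw [hwd (f z) t ((hf z hz).trans ht.symm)])
  have hmap : ∀ n (a : A) (ha : a ∈ I), d n (algebraMap A B a) = algebraMap A B (γ.dpow n a) := by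
    intro n a ha
    rw [hd n _ ((1 : B) ⊗ₜ[A] (⟨a, ha⟩ : I)) (Ideal.mem_map_of_mem _ ha) (by simp), E_tmul, coeff_E₁,
      one_pow, one_mul]
  have h_zero : ∀ x ∈ I.map (algebraMap A B), d 0 x = 1 := fun x hx => by
    rw [hd 0 x _ hx (hf x hx), coeff_zero_E]
  have h_one : ∀ x ∈ I.map (algebraMap A B), d 1 x = x := fun x hx => by
    rw [hd 1 x _ hx (hf x hx), coeff_one_E, hf x hx]
  have h_mem : ∀ (n : ℕ) (x : B), n ≠ 0 → x ∈ I.map (algebraMap A B) →
      d n x ∈ I.map (algebraMap A B) := fun n x hn hx => by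
    rw [hd n x _ hx (hf x hx)]; exact coeff_mem_E γ _ n hn
  have h_add : ∀ (n : ℕ) (x y : B), x ∈ I.map (algebraMap A B) → y ∈ I.map (algebraMap A B) →
      d n (x + y) = (Finset.antidiagonal n).sum fun k => d k.1 x * d k.2 y := fun n x y hx hy => by
    rw [hd n (x + y) (f x + f y) (Submodule.add_mem _ hx hy) (by rw [map_add, hf x hx, hf y hy]),
      map_add, toMul_add, coeff_mul]
    exact Finset.sum_congr rfl fun k _ => by rw [hd _ x _ hx (hf x hx), hd _ y _ hy (hf y hy)]
  have h_mul : ∀ (n : ℕ) (a x : B), x ∈ I.map (algebraMap A B) → d n (a * x) = a ^ n * d n x :=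
    fun n a x hx => by
      rw [hd n (a * x) (a • f x) (Ideal.mul_mem_left _ _ hx) (by rw [mult_smul, hf x hx]),
        E_smul, coeff_rescale, hd n x _ hx (hf x hx)]
  refine ⟨OfSpan.ofSpan (d := d) h_zero h_one h_mem h_add h_mul (fun n x hx => if_neg hx)
    (S := algebraMap A B '' I) rfl ?_, le_rfl, fun a ha => hmap _ a ha⟩
  rintro _ ⟨a, ha, rfl⟩
  refine ⟨fun m n => ?_, fun m n hn => ?_⟩
  · simp only [hmap _ _ ha, ← map_mul, γ.mul_dpow ha, map_natCast]
    rw [map_mul, map_natCast]
  · simp only [hmap _ _ ha, hmap _ _ (γ.dpow_mem hn ha), γ.dpow_comp hn ha, map_mul, map_natCast]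

theorem exists_extension_of_injective (hinj : Function.Injective (mult I (B := B))) :
    ∃ δ : DividedPowers (I.map (algebraMap A B)), γ.IsDPMorphism δ (algebraMap A B) :=
  exists_extension γ fun t ht => by rw [hinj (ht.trans (map_zero _).symm), map_zero]; rfl

theorem exists_extension_of_flat [Module.Flat A B] :
    ∃ δ : DividedPowers (I.map (algebraMap A B)), γ.IsDPMorphism δ (algebraMap A B) := by
  refine exists_extension_of_injective γ ?_
  have h : mult I (B := B) = (TensorProduct.rid A B).toLinearMap ∘ₗ LinearMap.lTensor B I.subtype := by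
    ext b x; simp [Algebra.smul_def, mul_comm]
  rw [h]
  exact (TensorProduct.rid A B).injective.comp
    (Module.Flat.lTensor_preserves_injective_linearMap _ I.subtype_injective)

end Ext

theorem exists_extension_singleton {A : Type u} {B : Type v} [CommRing A] [CommRing B] [Algebra A B]
    (x : A) (γ : DividedPowers (Ideal.span {x})) :
    ∃ δ : DividedPowers ((Ideal.span {x}).map (algebraMap A B)),
      γ.IsDPMorphism δ (algebraMap A B) := by
  refine exists_extension γ fun t ht => ?_
  have hx : x ∈ Ideal.span {x} := Ideal.subset_span rfl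
  have hb : ∃ b : B, t = b ⊗ₜ[A] (⟨x, hx⟩ : Ideal.span {x}) := by
    clear ht
    induction t using TensorProduct.induction_on with
    | zero => exact ⟨0, (TensorProduct.zero_tmul _ _).symm⟩
    | tmul b y =>
      obtain ⟨y, hy⟩ := y
      obtain ⟨r, rfl⟩ := Ideal.mem_span_singleton'.1 hy
      exact ⟨r • b, by rw [TensorProduct.smul_tmul]; rfl⟩
    | add s t hs ht =>
      obtain ⟨b, rfl⟩ := hs; obtain ⟨c, rfl⟩ := ht
      exact ⟨b + c, (TensorProduct.add_tmul _ _ _).symm⟩
  obtain ⟨b, rfl⟩ := hb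
  rw [mult_tmul] at ht
  ext n
  rw [E_tmul, coeff_E₁, coeff_one]
  rcases eq_or_ne n 0 with rfl | hn
  · simp [γ.dpow_zero hx]
  · obtain ⟨c, hc⟩ := Ideal.mem_span_singleton'.1 (γ.dpow_mem hn hx)
    rw [if_neg hn, ← hc, map_mul]
    obtain ⟨m, rfl⟩ := Nat.exists_eq_succ_of_ne_zero hn
    rw [pow_succ, mul_comm (algebraMap A B c), mul_assoc, ← mul_assoc b, ht, zero_mul, mul_zero]

end Groth.Agent.DPow95.Extend
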