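import Groth.Agent.DPow95.Extend
import Groth.Agent.S6501
import Mathlib.RingTheory.TensorProduct.Free
import Mathlib.Tactic.FieldSimp
import Mathlib.Data.Nat.Choose.Cast
import Mathlib.LinearAlgebra.Basis.Defs
import Mathlib.Algebra.Algebra.Subalgebra.Basic

/-!
# The divided power polynomial algebra

For an algebra with elements `x l n` (`X_l^[n]`) whose monomials form a basis: divided powers on the
augmentation ideal, the universal property, and a model over every ring.
-/

universe u v w w'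

open MvPolynomial TensorProduct

namespace Groth.Agent.DPow95.FreeAlg

section Mono

variable {P : Type v} [CommRing P] {Λ : Type w} (x : Λ → ℕ → P)

/-- The monomial `∏ X_l^[e l]`. -/
noncomputable def mono (e : Λ →₀ ℕ) : P := e.prod fun l k => x l k

variable (hx0 : ∀ l, x l 0 = 1)
  (hxmul : ∀ l n m, x l n * x l m = ((n + m).choose n : P) * x l (n + m))
include hx0

theorem mono_single (l : Λ) (n : ℕ) : mono x (Finsupp.single l n) = x l n :=
  Finsupp.prod_single_index (hx0 l)

omit hx0 in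
theorem mono_zero : mono x 0 = 1 := Finsupp.prod_zero_index

include hxmul

omit hxmul in
theorem prod_eq_of_support [DecidableEq Λ] (e f g : Λ →₀ ℕ)
    (hg : g.support ⊆ e.support ∪ f.support) :
    mono x g = ∏ l ∈ e.support ∪ f.support, x l (g l) :=
  g.prod_of_support_subset hg (fun l k => x l k) fun l _ => hx0 l

open Classical in
theorem mono_mul_coeff (e f : Λ →₀ ℕ) :
    mono x e * mono x f =
      ((∏ l ∈ e.support ∪ f.support, (e l + f l).choose (e l) : ℕ) : P) * mono x (e + f) := by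
  rw [prod_eq_of_support x hx0 e f e Finset.subset_union_left,
    prod_eq_of_support x hx0 e f f Finset.subset_union_right,
    prod_eq_of_support x hx0 e f _ Finsupp.support_add,
    Nat.cast_prod, ← Finset.prod_mul_distrib, ← Finset.prod_mul_distrib]
  exact Finset.prod_congr rfl fun l _ => hxmul l _ _

theorem mono_mul_eq (e f : Λ →₀ ℕ) :
    ∃ C : ℕ, mono x e * mono x f = (C : P) * mono x (e + f) := by
  classical
  exact ⟨_, mono_mul_coeff x hx0 hxmul e f⟩

theorem factorial_mul (l : Λ) (n : ℕ) : (n.factorial : P) * x l n = x l 1 ^ n := by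
  induction n with
  | zero => simp [hx0]
  | succ n ih =>
    rw [pow_succ, ← ih, mul_assoc, hxmul, Nat.choose_succ_self_right, Nat.factorial_succ]
    push_cast; ring

end Mono

section Aug

variable {P : Type v} [CommRing P] {Λ : Type w} (x : Λ → ℕ → P)

/-- The augmentation ideal. -/
def Aug : Ideal P := Ideal.span {y : P | ∃ (l : Λ) (n : ℕ), 1 ≤ n ∧ y = x l n}

theorem mem_Aug (l : Λ) (n : ℕ) (hn : 1 ≤ n) : x l n ∈ Aug x :=
  Ideal.subset_span ⟨l, n, hn, rfl⟩

theorem mono_mem_Aug {e : Λ →₀ ℕ} (he : e ≠ 0) : mono x e ∈ Aug x := by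
  classical
  obtain ⟨l, hl⟩ := Finsupp.support_nonempty_iff.2 he
  rw [mono, Finsupp.prod, ← Finset.mul_prod_erase _ _ hl]
  exact Ideal.mul_mem_right _ _ (mem_Aug x l _ (Nat.pos_of_ne_zero (Finsupp.mem_support_iff.1 hl)))

variable (hx0 : ∀ l, x l 0 = 1)
  (hxmul : ∀ l n m, x l n * x l m = ((n + m).choose n : P) * x l (n + m))
include hx0 hxmul

theorem Aug_le (R : Type u) [CommRing R] [Algebra R P]
    (hspan : Submodule.span R (Set.range (mono x)) = ⊤) :
    ∀ z ∈ Aug x, z ∈ Submodule.span R (mono x '' {e | e ≠ 0}) := by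
  intro z hz
  induction hz using Submodule.span_induction with
  | mem y hy =>
    obtain ⟨l, n, hn, rfl⟩ := hy
    exact Submodule.subset_span
      ⟨Finsupp.single l n, Finsupp.single_ne_zero.2 (by omega), mono_single x hx0 l n⟩
  | zero => exact Submodule.zero_mem _
  | add a b _ _ ha hb => exact Submodule.add_mem _ ha hb
  | smul a y hy0 hy =>
    clear hy0
    have ha : a ∈ Submodule.span R (Set.range (mono x)) := by rw [hspan]; trivial
    rw [smul_eq_mul]
    induction ha using Submodule.span_induction with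
    | mem a ha =>
      obtain ⟨f, rfl⟩ := ha
      induction hy using Submodule.span_induction with
      | mem y hy =>
        obtain ⟨e, he, rfl⟩ := hy
        obtain ⟨C, hC⟩ := mono_mul_eq x hx0 hxmul f e
        rw [hC, ← nsmul_eq_mul]
        refine nsmul_mem (Submodule.subset_span (Set.mem_image_of_mem (mono x) ?_)) C
        intro h
        exact he (by ext l; have := DFunLike.congr_fun h l; simp at this ⊢; omega)
      | zero => simp
      | add p q _ _ hp hq => rw [mul_add]; exact Submodule.add_mem _ hp hq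
      | smul r p _ hp => rw [mul_smul_comm]; exact Submodule.smul_mem _ r hp
    | zero => simp
    | add p q _ _ hp hq => rw [add_mul]; exact Submodule.add_mem _ hp hq
    | smul r p _ hp => rw [smul_mul_assoc]; exact Submodule.smul_mem _ r hp

theorem eq_of_gens (γ γ' : DividedPowers (Aug x))
    (h : ∀ l n, γ.dpow n (x l 1) = x l n) (h' : ∀ l n, γ'.dpow n (x l 1) = x l n) : γ = γ' := by
  refine DividedPowers.dpow_eq_from_gens γ' γ rfl fun {k} y hy => ?_
  obtain ⟨l, n, hn, rfl⟩ := hy
  have hm := mem_Aug x l 1 le_rfl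
  conv_lhs => rw [← h' l n, γ'.dpow_comp (by omega) hm, h']
  conv_rhs => rw [← h l n, γ.dpow_comp (by omega) hm, h]

end Aug

section Universal

variable (Λ : Type w)

/-- `X_l^[n]` over the rationals. -/
noncomputable def xQ : Λ → ℕ → MvPolynomial Λ ℚ :=
  fun l n => monomial (Finsupp.single l n) (n.factorial : ℚ)⁻¹

theorem xQ_zero (l : Λ) : xQ Λ l 0 = 1 := by simp [xQ]

theorem xQ_mul (l : Λ) (n m : ℕ) :
    xQ Λ l n * xQ Λ l m = ((n + m).choose n : MvPolynomial Λ ℚ) * xQ Λ l (n + m) := by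
  simp only [xQ]
  rw [monomial_mul, ← map_natCast C, C_mul_monomial, ← Finsupp.single_add,
    Nat.cast_choose ℚ (Nat.le_add_right n m), Nat.add_sub_cancel_left]
  congr 1
  field_simp

theorem mono_xQ (e : Λ →₀ ℕ) :
    mono (xQ Λ) e = monomial e (e.prod fun _ k => (k.factorial : ℚ)⁻¹) := by
  classical
  have h : ∀ s : Finset Λ, ∏ l ∈ s, xQ Λ l (e l) =
      monomial (∑ l ∈ s, Finsupp.single l (e l)) (∏ l ∈ s, ((e l).factorial : ℚ)⁻¹) := by
    intro s
    induction s using Finset.induction with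
    | empty => simp
    | insert a s ha ih => rw [Finset.prod_insert ha, ih, xQ, monomial_mul, Finset.sum_insert ha,
        Finset.prod_insert ha]
  rw [mono, Finsupp.prod, h]
  congr
  exact e.sum_single

theorem mono_xQ_linearIndependent : LinearIndependent ℤ (mono (xQ Λ)) := by
  have h : LinearIndependent ℚ (mono (xQ Λ)) := by
    rw [linearIndependent_iff]
    intro c hc
    ext e
    have h1 := congrArg (coeff e) hc
    classical
    simp only [Finsupp.linearCombination_apply, Finsupp.sum, coeff_sum, coeff_smul, mono_xQ,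
      coeff_monomial, coeff_zero, smul_eq_mul, mul_ite, mul_zero, Finset.sum_ite_eq'] at h1
    by_contra hne
    rw [if_pos (Finsupp.mem_support_iff.2 hne)] at h1
    exact hne ((mul_eq_zero.1 h1).resolve_right
      (Finset.prod_ne_zero_iff.2 fun l _ => by simp [Nat.factorial_ne_zero]))
  exact h.restrict_scalars' ℤ

variable {Λ} {P : Type v} [CommRing P] (x : Λ → ℕ → P)

/-- Pairs: the universal monomial and its value in `P`. -/
noncomputable def pr : Λ → ℕ → MvPolynomial Λ ℚ × P := fun l n => (xQ Λ l n, x l n)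

theorem fst_mono (e : Λ →₀ ℕ) : (mono (pr x) e).1 = mono (xQ Λ) e :=
  map_finsuppProd (RingHom.fst (MvPolynomial Λ ℚ) P) e _

theorem snd_mono (e : Λ →₀ ℕ) : (mono (pr x) e).2 = mono x e :=
  map_finsuppProd (RingHom.snd (MvPolynomial Λ ℚ) P) e _

theorem fst_injective :
    Function.Injective
      (fun c : (Λ →₀ ℕ) →₀ ℤ => (Finsupp.linearCombination ℤ (mono (pr x)) c).1) := by
  intro a b h
  apply mono_xQ_linearIndependent Λ
  simpa [Finsupp.linearCombination_apply, Finsupp.sum, Prod.fst_sum, fst_mono] using h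

variable (hx0 : ∀ l, x l 0 = 1)
  (hxmul : ∀ l n m, x l n * x l m = ((n + m).choose n : P) * x l (n + m))
include hx0

theorem pr_zero (l : Λ) : pr x l 0 = 1 := Prod.ext (xQ_zero Λ l) (hx0 l)

include hxmul

theorem pr_mul (l : Λ) (n m : ℕ) :
    pr x l n * pr x l m = ((n + m).choose n : MvPolynomial Λ ℚ × P) * pr x l (n + m) :=
  Prod.ext (xQ_mul Λ l n m) (hxmul l n m)

/-- The subring spanned by the universal monomials. -/
noncomputable def T : Subalgebra ℤ (MvPolynomial Λ ℚ × P) :=
  (Submodule.span ℤ (Set.range (mono (pr x)))).toSubalgebra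
    (Submodule.subset_span ⟨0, mono_zero _⟩) fun p q hp hq => by
      induction hp using Submodule.span_induction with
      | mem p hp =>
        obtain ⟨e, rfl⟩ := hp
        induction hq using Submodule.span_induction with
        | mem q hq =>
          obtain ⟨f, rfl⟩ := hq
          obtain ⟨C, hC⟩ := mono_mul_eq (pr x) (pr_zero x hx0) (pr_mul x hx0 hxmul) e f
          rw [hC, ← nsmul_eq_mul]
          exact nsmul_mem (Submodule.subset_span (Set.mem_range_self (f := mono (pr x)) (e + f))) C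
        | zero => simp
        | add a b _ _ ha hb => rw [mul_add]; exact Submodule.add_mem _ ha hb
        | smul r a _ ha => rw [mul_smul_comm]; exact Submodule.smul_mem _ r ha
      | zero => simp
      | add a b _ _ ha hb => rw [add_mul]; exact Submodule.add_mem _ ha hb
      | smul r a _ ha => rw [smul_mul_assoc]; exact Submodule.smul_mem _ r ha

theorem torsionFree_T : IsAddTorsionFree (T x hx0 hxmul) := by
  refine Function.Injective.isAddTorsionFree
    (((RingHom.fst _ P).comp (T x hx0 hxmul).val.toRingHom).toAddMonoidHom) ?_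
  rintro ⟨a, ha⟩ ⟨b, hb⟩ h
  obtain ⟨c, rfl⟩ := (Finsupp.mem_span_range_iff_exists_finsupp).1 ha
  obtain ⟨c', rfl⟩ := (Finsupp.mem_span_range_iff_exists_finsupp).1 hb
  have hcc : c = c' := fst_injective x (by simpa [Finsupp.linearCombination_apply] using h)
  subst hcc; rfl

/-- `X_l^[n]` in `T`. -/
noncomputable def xT : Λ → ℕ → T x hx0 hxmul := fun l n =>
  ⟨pr x l n, Submodule.subset_span ⟨Finsupp.single l n, mono_single _ (pr_zero x hx0) l n⟩⟩

theorem val_mono_xT (e : Λ →₀ ℕ) :
    ((mono (xT x hx0 hxmul) e : T x hx0 hxmul) : MvPolynomial Λ ℚ × P) = mono (pr x) e :=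
  map_finsuppProd (T x hx0 hxmul).val e _

theorem xT_zero (l : Λ) : xT x hx0 hxmul l 0 = 1 := Subtype.ext (pr_zero x hx0 l)

theorem xT_mul (l : Λ) (n m : ℕ) : xT x hx0 hxmul l n * xT x hx0 hxmul l m =
    ((n + m).choose n : T x hx0 hxmul) * xT x hx0 hxmul l (n + m) := by
  apply Subtype.ext
  push_cast
  exact pr_mul x hx0 hxmul l n m

theorem span_mono_xT : Submodule.span ℤ (Set.range (mono (xT x hx0 hxmul))) = ⊤ := by
  rw [eq_top_iff]
  rintro ⟨a, ha⟩ -
  obtain ⟨c, rfl⟩ := (Finsupp.mem_span_range_iff_exists_finsupp).1 ha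
  refine (Finsupp.mem_span_range_iff_exists_finsupp).2 ⟨c, Subtype.ext ?_⟩
  simp only [Finsupp.sum, AddSubmonoidClass.coe_finsetSum, Subalgebra.coe_smul, val_mono_xT]

theorem exists_dp_T : ∃ γ : DividedPowers (Aug (xT x hx0 hxmul)),
    ∀ l n, γ.dpow n (xT x hx0 hxmul l 1) = xT x hx0 hxmul l n := by
  haveI := torsionFree_T x hx0 hxmul
  have hfac := factorial_mul (xT x hx0 hxmul) (xT_zero x hx0 hxmul) (xT_mul x hx0 hxmul)
  have hgen : ∀ y ∈ {y : T x hx0 hxmul | ∃ (l : Λ) (n : ℕ), 1 ≤ n ∧ y = xT x hx0 hxmul l n},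
      ∀ k : ℕ, 1 ≤ k → y ^ k ∈ Ideal.span {(Nat.factorial k : T x hx0 hxmul)} * Aug (xT x hx0 hxmul) := by
    rintro _ ⟨l, n, hn, rfl⟩ k hk
    refine Ideal.mem_span_singleton_mul.2 ⟨(k.uniformBell n : T x hx0 hxmul) * xT x hx0 hxmul l (k * n),
      Ideal.mul_mem_left _ _ (mem_Aug _ l _ (Nat.mul_pos hk hn)), ?_⟩
    refine nsmul_right_injective (pow_ne_zero k n.factorial_ne_zero) ?_
    simp only [nsmul_eq_mul, Nat.cast_pow]
    rw [← mul_pow (n.factorial : T x hx0 hxmul) (xT x hx0 hxmul l n), hfac, ← pow_mul,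
      mul_comm n k, ← hfac l (k * n), ← Nat.uniformBell_mul_eq k (show n ≠ 0 by omega)]
    push_cast
    ring
  obtain ⟨γ⟩ := ((Groth.Agent.S6501.result (Aug (xT x hx0 hxmul))).2).2 ⟨_, rfl, hgen⟩
  refine ⟨γ, fun l n => nsmul_right_injective n.factorial_ne_zero ?_⟩
  simp only [nsmul_eq_mul]
  rw [γ.factorial_mul_dpow_eq_pow (mem_Aug _ l 1 le_rfl), hfac]

/-- The value map `T → P`. -/
noncomputable def ψ : T x hx0 hxmul →+* P :=
  (RingHom.snd _ P).comp (T x hx0 hxmul).val.toRingHom

theorem ψ_xT (l : Λ) (n : ℕ) : ψ x hx0 hxmul (xT x hx0 hxmul l n) = x l n := rfl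

theorem ψ_mono (e : Λ →₀ ℕ) : ψ x hx0 hxmul (mono (xT x hx0 hxmul) e) = mono x e := by
  rw [show ψ x hx0 hxmul (mono (xT x hx0 hxmul) e) =
    ((mono (xT x hx0 hxmul) e : T x hx0 hxmul) : MvPolynomial Λ ℚ × P).2 from rfl, val_mono_xT, snd_mono]

theorem map_Aug : (Aug (xT x hx0 hxmul)).map (ψ x hx0 hxmul) = Aug x := by
  rw [Aug, Aug, Ideal.map_span]
  congr 1
  ext y
  constructor
  · rintro ⟨_, ⟨l, n, hn, rfl⟩, rfl⟩; exact ⟨l, n, hn, rfl⟩
  · rintro ⟨l, n, hn, rfl⟩; exact ⟨_, ⟨l, n, hn, rfl⟩, rfl⟩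

theorem exists_dp (R : Type u) [CommRing R] [Algebra R P]
    (b : Module.Basis (Λ →₀ ℕ) R P) (hb : ∀ e, b e = mono x e) :
    ∃ γ : DividedPowers (Aug x), ∀ l n, γ.dpow n (x l 1) = x l n := by
  classical
  letI alg : Algebra (T x hx0 hxmul) P := (ψ x hx0 hxmul).toAlgebra
  obtain ⟨γ₀, hγ₀⟩ := exists_dp_T x hx0 hxmul
  let J := Aug (xT x hx0 hxmul)
  let g : (Λ →₀ ℕ) → J := fun e =>
    if he : e ≠ 0 then ⟨mono (xT x hx0 hxmul) e, mono_mem_Aug _ he⟩ else 0
  let Φ : ((Λ →₀ ℕ) →₀ R) →+ P ⊗[T x hx0 hxmul] J :=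
    Finsupp.liftAddHom fun e => AddMonoidHom.mk'
      (fun r => algebraMap R P r ⊗ₜ[T x hx0 hxmul] g e)
      (fun r s => by rw [map_add, TensorProduct.add_tmul])
  have hsingle : ∀ e r, Φ (Finsupp.single e r) = algebraMap R P r ⊗ₜ[T x hx0 hxmul] g e := fun e r => by
    simp [Φ]
  have hsurj : ∀ t, t ∈ Φ.range := by
    intro t
    induction t using TensorProduct.induction_on with
    | zero => exact zero_mem _
    | add a c ha hc => exact add_mem ha hc
    | tmul p y =>
      have hp : p ∈ Submodule.span R (Set.range b) := by rw [b.span_eq]; trivial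
      induction hp using Submodule.span_induction with
      | zero => rw [TensorProduct.zero_tmul]; exact zero_mem _
      | add a c _ _ ha hc => rw [TensorProduct.add_tmul]; exact add_mem ha hc
      | mem p hp => ?_
      | smul r p _ hp => ?_
      · obtain ⟨f, rfl⟩ := hp
        suffices H : ∀ r : R, (algebraMap R P r * b f) ⊗ₜ[T x hx0 hxmul] y ∈ Φ.range by
          simpa using H 1
        intro r
        obtain ⟨y, hy⟩ := y
        have hy' := Aug_le (xT x hx0 hxmul) (xT_zero x hx0 hxmul) (xT_mul x hx0 hxmul) ℤ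
          (span_mono_xT x hx0 hxmul) y hy
        suffices H : ∀ z, z ∈ Submodule.span ℤ (mono (xT x hx0 hxmul) '' {e | e ≠ 0}) →
            ∀ hz : z ∈ J, (algebraMap R P r * b f) ⊗ₜ[T x hx0 hxmul] (⟨z, hz⟩ : J) ∈ Φ.range from
          H y hy' hy
        intro z hz
        rw [Finsupp.mem_span_image_iff_linearCombination] at hz
        obtain ⟨c, hc, rfl⟩ := hz
        intro hz
        have he : (⟨_, hz⟩ : J) = ∑ e ∈ c.support, c e • g e := by
          apply Subtype.ext
          rw [AddSubmonoidClass.coe_finsetSum]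
          simp only [Finsupp.linearCombination_apply, Finsupp.sum, Submodule.coe_smul_of_tower]
          refine Finset.sum_congr rfl fun e he => ?_
          rw [show g e = ⟨_, _⟩ from dif_pos ((Finsupp.mem_supported _ _).1 hc he)]
        rw [he, TensorProduct.tmul_sum]
        refine sum_mem fun e he => ?_
        rw [← TensorProduct.mk_apply, map_zsmul, TensorProduct.mk_apply]
        refine zsmul_mem ?_ (c e)
        have hne : e ≠ 0 := (Finsupp.mem_supported _ _).1 hc he
        obtain ⟨C, hC⟩ := mono_mul_eq (xT x hx0 hxmul) (xT_zero x hx0 hxmul) (xT_mul x hx0 hxmul) f e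
        have hfe : f + e ≠ 0 := fun h => hne (by
          ext l; have := DFunLike.congr_fun h l; simp at this ⊢; omega)
        have h1 : algebraMap R P r * b f = mono (xT x hx0 hxmul) f • algebraMap R P r := by
          rw [Algebra.smul_def, RingHom.algebraMap_toAlgebra, ψ_mono, hb, mul_comm]
        have h2 : mono (xT x hx0 hxmul) f • g e = C • g (f + e) := by
          apply Subtype.ext
          rw [Submodule.coe_smul, Submodule.coe_smul_of_tower, show g e = ⟨_, _⟩ from dif_pos hne,
            show g (f + e) = ⟨_, _⟩ from dif_pos hfe, smul_eq_mul, nsmul_eq_mul, hC]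
        rw [h1, TensorProduct.smul_tmul, h2, ← TensorProduct.mk_apply, map_nsmul, TensorProduct.mk_apply]
        exact nsmul_mem (AddMonoidHom.mem_range.2 ⟨Finsupp.single (f + e) r, hsingle _ _⟩) C
      · obtain ⟨c, hc⟩ := hp
        refine ⟨r • c, ?_⟩
        rw [Algebra.smul_def r p, ← smul_eq_mul, ← TensorProduct.smul_tmul', ← hc]
        clear hc
        induction c using Finsupp.induction_linear with
        | zero => simp
        | add a c ha hc => rw [smul_add, map_add, map_add, ha, hc, smul_add]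
        | single e s =>
          rw [Finsupp.smul_single, hsingle, hsingle, TensorProduct.smul_tmul', smul_eq_mul,
            smul_eq_mul, map_mul]
  have hinj : Function.Injective (Extend.mult J (B := P)) := by
    rw [injective_iff_map_eq_zero]
    intro t ht
    obtain ⟨c, rfl⟩ := hsurj t
    have hval : Extend.mult J (Φ c) = Finsupp.linearCombination R b (c.erase 0) := by
      clear ht
      induction c using Finsupp.induction_linear with
      | zero => simp
      | add a c ha hc => rw [map_add, map_add, ha, hc, Finsupp.erase_add, map_add]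
      | single e s =>
        rw [hsingle, Extend.mult_tmul]
        rcases eq_or_ne e 0 with rfl | he
        · simp [g]
        · rw [Finsupp.erase_single_ne (Ne.symm he), Finsupp.linearCombination_single,
            show g e = ⟨_, _⟩ from dif_pos he, RingHom.algebraMap_toAlgebra, ψ_mono, ← hb,
            Algebra.smul_def]
    rw [hval, ← map_zero (Finsupp.linearCombination R b)] at ht
    have hz := b.linearIndependent.finsuppLinearCombination_injective ht
    rw [← Finsupp.single_add_erase 0 c, hz, map_add Φ, map_zero Φ, add_zero, hsingle]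
    simp [g]
  obtain ⟨δ, hδ⟩ := Extend.exists_extension_of_injective γ₀ hinj
  have hJ : J.map (algebraMap (T x hx0 hxmul) P) = Aug x := map_Aug x hx0 hxmul
  have hval' : ∀ l n, δ.dpow n (x l 1) = x l n := fun l n => by
    have h := hδ.dpow_comp (n := n) _ (mem_Aug (xT x hx0 hxmul) l 1 le_rfl)
    rw [hγ₀] at h
    exact h
  suffices H : ∀ (I : Ideal P), I = Aug x → ∀ δ : DividedPowers I, (∀ l n, δ.dpow n (x l 1) = x l n) →
      ∃ γ : DividedPowers (Aug x), ∀ l n, γ.dpow n (x l 1) = x l n from H _ hJ δ hval'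
  rintro I rfl δ h
  exact ⟨δ, h⟩

omit hxmul in
theorem free_flat (R : Type u) [CommRing R] [Algebra R P] (b : Module.Basis (Λ →₀ ℕ) R P) :
    Module.Flat R P :=
  haveI := Module.Free.of_basis b
  inferInstance

theorem map_inf_Aug (R : Type u) [CommRing R] [Algebra R P]
    (b : Module.Basis (Λ →₀ ℕ) R P) (hb : ∀ e, b e = mono x e) (I : Ideal R) (z : P)
    (h1 : z ∈ I.map (algebraMap R P)) (h2 : z ∈ Aug x) : z ∈ I.map (algebraMap R P) • Aug x := by
  have hb' : ⇑b = mono x := funext hb
  have h2' := Aug_le x hx0 hxmul R (hb' ▸ b.span_eq) z h2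
  rw [← hb', b.mem_span_image] at h2'
  have h1' : ∀ e, b.repr z e ∈ I := by
    have h : z ∈ I • (⊤ : Submodule R P) := by rw [Ideal.smul_top_eq_map]; exact h1
    intro e
    refine Submodule.smul_induction_on h (fun r hr y _ => ?_) fun p q hp hq => ?_
    · rw [map_smul, Finsupp.smul_apply, smul_eq_mul]; exact I.mul_mem_right _ hr
    · rw [map_add, Finsupp.add_apply]; exact I.add_mem hp hq
  rw [← b.linearCombination_repr z, Finsupp.linearCombination_apply]
  refine Submodule.sum_mem _ fun e he => ?_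
  dsimp only
  rw [Algebra.smul_def (R := R) (A := P), ← smul_eq_mul, hb]
  exact Submodule.smul_mem_smul (Ideal.mem_map_of_mem _ (h1' e)) (mono_mem_Aug x (h2' he))

/-- Existence and uniqueness on `IP + P₊`. -/
theorem existsUnique_sup_dp (R : Type u) [CommRing R] [Algebra R P]
    (b : Module.Basis (Λ →₀ ℕ) R P) (hb : ∀ e, b e = mono x e) {I : Ideal R} (γ : DividedPowers I)
    (δplus : DividedPowers (Aug x)) :
    ∃! δ : DividedPowers (I.map (algebraMap R P) ⊔ Aug x),
      γ.IsDPMorphism δ (algebraMap R P) ∧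
        ∀ (n : ℕ) (y : P), y ∈ Aug x → δ.dpow n y = δplus.dpow n y := by
  haveI := free_flat x hx0 R b
  obtain ⟨δI, hδI⟩ := Extend.exists_extension_of_flat (B := P) γ
  obtain ⟨ε, ⟨he1, he2⟩, huniq⟩ := Extend.existsUnique_sup δI δplus fun n z hz =>
    δI.coincide_on_smul δplus (map_inf_Aug x hx0 hxmul R b hb I z hz.1 hz.2)
  refine ⟨ε, ⟨⟨le_sup_left, fun {n} a ha => ?_⟩, he2⟩, fun ε' h => huniq ε' ⟨?_, h.2⟩⟩
  · rw [he1 n _ (Ideal.mem_map_of_mem _ ha), hδI.dpow_comp a ha]
  · intro n z hz
    have hS : I.map (algebraMap R P) = Ideal.span (algebraMap R P '' I) := rfl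
    have h2 : δI.IsDPMorphism ε' (RingHom.id P) := by
      refine DividedPowers.IsDPMorphism.on_span _ _ hS ?_ ?_
      · rintro _ ⟨a, ha, rfl⟩
        exact Submodule.mem_sup_left (Ideal.mem_map_of_mem _ ha)
      · rintro k _ ⟨a, ha, rfl⟩
        simp only [RingHom.id_apply]
        rw [hδI.dpow_comp a ha, h.1.dpow_comp a ha]
    exact h2.dpow_comp (n := n) z hz

/-- The universal property. -/
theorem existsUnique_algHom (R : Type u) [CommRing R] [Algebra R P]
    (b : Module.Basis (Λ →₀ ℕ) R P) (hb : ∀ e, b e = mono x e)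
    {S : Type w'} [CommRing S] [Algebra R S] {J : Ideal S} (δ : DividedPowers J)
    (γ : DividedPowers (Aug x)) (hγ : ∀ l n, γ.dpow n (x l 1) = x l n)
    (s : Λ → S) (hs : ∀ l, s l ∈ J) :
    ∃! φ : P →ₐ[R] S, γ.IsDPMorphism δ φ.toRingHom ∧ ∀ l, φ (x l 1) = s l := by
  let y : Λ → ℕ → S := fun l k => δ.dpow k (s l)
  have hy0 : ∀ l, y l 0 = 1 := fun l => δ.dpow_zero (hs l)
  have hymul : ∀ l n m, y l n * y l m = ((n + m).choose n : S) * y l (n + m) :=
    fun l n m => δ.mul_dpow (hs l)
  have hb' : ⇑b = mono x := funext hb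
  let φ₀ : P →ₗ[R] S := b.constr ℕ (mono y)
  have hφ₀ : ∀ e, φ₀ (mono x e) = mono y e := fun e => by rw [← hb]; exact b.constr_basis ℕ _ e
  have hone : φ₀ 1 = 1 := by rw [← mono_zero x, hφ₀, mono_zero]
  have hmul : ∀ p q, φ₀ (p * q) = φ₀ p * φ₀ q := by
    have h : (LinearMap.mul R P).compr₂ φ₀ = (LinearMap.mul R S).compl₁₂ φ₀ φ₀ := by
      refine b.ext fun e => b.ext fun f => ?_
      simp only [LinearMap.compr₂_apply, LinearMap.mul_apply', LinearMap.compl₁₂_apply, hb, hφ₀]
      rw [mono_mul_coeff x hx0 hxmul, mono_mul_coeff y hy0 hymul, ← nsmul_eq_mul, map_nsmul, hφ₀,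
        nsmul_eq_mul]
    exact fun p q => LinearMap.congr_fun (LinearMap.congr_fun h p) q
  let φ : P →ₐ[R] S := AlgHom.ofLinearMap φ₀ hone hmul
  have hφ : ∀ l n, φ (x l n) = y l n := fun l n => by
    rw [← mono_single x hx0 l n, ← mono_single y hy0 l n]; exact hφ₀ _
  refine ⟨φ, ⟨?_, fun l => (hφ l 1).trans (δ.dpow_one (hs l))⟩, fun φ' ⟨hdp, h1⟩ => ?_⟩
  · refine DividedPowers.IsDPMorphism.on_span _ _ rfl ?_ ?_
    · rintro _ ⟨l, n, hn, rfl⟩
      show φ (x l n) ∈ J
      rw [hφ]; exact δ.dpow_mem (by omega) (hs l)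
    · rintro k _ ⟨l, n, hn, rfl⟩
      show φ (γ.dpow k (x l n)) = δ.dpow k (φ (x l n))
      rw [hφ]
      conv_lhs => rw [← hγ l n, γ.dpow_comp (by omega) (mem_Aug x l 1 le_rfl), hγ, map_mul, map_natCast, hφ]
      exact (δ.dpow_comp (by omega) (hs l)).symm
  · refine AlgHom.toLinearMap_injective (b.ext fun e => ?_)
    rw [hb, AlgHom.toLinearMap_apply, AlgHom.toLinearMap_apply, mono, map_finsuppProd, map_finsuppProd]
    refine Finsupp.prod_congr fun l _ => ?_
    have h2 := hdp.dpow_comp (n := e l) (x l 1) (mem_Aug x l 1 le_rfl)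
    rw [hγ] at h2
    exact h2.symm.trans (show δ.dpow (e l) (φ' (x l 1)) = φ (x l (e l)) by rw [h1, hφ])

end Universal

section Model

variable (R : Type u) [CommRing R] (Λ : Type w)

/-- The universal ring, as a subalgebra of `ℚ[X] × ℚ[X]`. -/
noncomputable abbrev T₀ := T (xQ Λ) (xQ_zero Λ) (xQ_mul Λ)

/-- The monomial basis of the universal ring. -/
noncomputable def basisT₀ : Module.Basis (Λ →₀ ℕ) ℤ (T₀ Λ) :=
  Module.Basis.mk (v := mono (xT (xQ Λ) (xQ_zero Λ) (xQ_mul Λ)))
    (LinearIndependent.of_comp (((AlgHom.fst ℤ _ _).comp (T₀ Λ).val).toLinearMap) (by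
      have h : ⇑(((AlgHom.fst ℤ _ _).comp (T₀ Λ).val).toLinearMap) ∘
          mono (xT (xQ Λ) (xQ_zero Λ) (xQ_mul Λ)) = mono (xQ Λ) := funext fun e => by
        show ((mono (xT (xQ Λ) (xQ_zero Λ) (xQ_mul Λ)) e : T₀ Λ) :
          MvPolynomial Λ ℚ × MvPolynomial Λ ℚ).1 = _
        rw [val_mono_xT, fst_mono]
      rw [h]
      exact mono_xQ_linearIndependent Λ))
    (span_mono_xT _ _ _).ge

/-- A model of the divided power polynomial algebra over `R`. -/
theorem exists_model : ∃ (P : Type max u w) (_ : CommRing P) (_ : Algebra R P) (x : Λ → ℕ → P),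
    (∀ l, x l 0 = 1) ∧ (∀ l n m, x l n * x l m = ((n + m).choose n : P) * x l (n + m)) ∧
      ∃ b : Module.Basis (Λ →₀ ℕ) R P, ∀ e, b e = mono x e := by
  let i : T₀ Λ →+* R ⊗[ℤ] T₀ Λ := (Algebra.TensorProduct.includeRight (R := ℤ) (A := R)).toRingHom
  refine ⟨R ⊗[ℤ] T₀ Λ, inferInstance, inferInstance,
    fun l n => i (xT (xQ Λ) (xQ_zero Λ) (xQ_mul Λ) l n),
    fun l => by dsimp only; rw [xT_zero, map_one],
    fun l n m => by dsimp only; rw [← map_mul, xT_mul, map_mul, map_natCast],
    Algebra.TensorProduct.basis R (basisT₀ Λ), fun e => ?_⟩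
  rw [Algebra.TensorProduct.basis_apply, basisT₀, Module.Basis.coe_mk]
  exact map_finsuppProd i e _

end Model

end Groth.Agent.DPow95.FreeAlg
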