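import Mathlib.RingTheory.DividedPowers.RatAlgebra
import Mathlib.Algebra.MvPolynomial.CommRing
import Mathlib.LinearAlgebra.Finsupp.LinearCombination
import Mathlib.Data.Rat.Cast.CharZero

/-!
# Divided powers from generators

The product and composition axioms propagate along sums and multiples: proved through the
universal example `ℚ[X, Y]`.
-/

universe u

open MvPolynomial

namespace Groth.Agent.DPow95.OfSpan

/-- The divided powers on `ℚ[X, Y]`. -/
noncomputable def gam : DividedPowers (⊤ : Ideal (MvPolynomial (Fin 2) ℚ)) :=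
  haveI : DecidablePred (fun x => x ∈ (⊤ : Ideal (MvPolynomial (Fin 2) ℚ))) := Classical.decPred _
  DividedPowers.RatAlgebra.dividedPowers ⊤

/-- `X^[i] Y^[j]`. -/
noncomputable def mon (ij : ℕ × ℕ) : MvPolynomial (Fin 2) ℚ :=
  monomial (Finsupp.single 0 ij.1 + Finsupp.single 1 ij.2)
    ((ij.1.factorial : ℚ)⁻¹ * (ij.2.factorial : ℚ)⁻¹)

theorem mon_eq (i j : ℕ) :
    mon (i, j) = gam.dpow i (X 0) * gam.dpow j (X 1) := by
  have h : ∀ (n : ℕ) (v : Fin 2), gam.dpow n (X v : MvPolynomial (Fin 2) ℚ) =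
      monomial (Finsupp.single v n) (n.factorial : ℚ)⁻¹ := by
    intro n v
    rw [DividedPowers.RatAlgebra.dpow_eq_inv_fact_smul ⊤ gam Submodule.mem_top, X_pow_eq_monomial,
      smul_monomial, Ring.inverse_eq_inv', smul_eq_mul, mul_one]
  rw [h, h, monomial_mul, mon]

theorem coeff_mon (ij kl : ℕ × ℕ) :
    coeff (Finsupp.single 0 ij.1 + Finsupp.single 1 ij.2) (mon kl) =
      if kl = ij then (ij.1.factorial : ℚ)⁻¹ * (ij.2.factorial : ℚ)⁻¹ else 0 := by
  classical
  rw [mon, coeff_monomial]
  by_cases h : kl = ij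
  · subst h; simp
  · rw [if_neg h, if_neg]
    intro h'
    refine h (Prod.ext ?_ ?_)
    · have := DFunLike.congr_fun h' 0; simpa using this
    · have := DFunLike.congr_fun h' 1; simpa using this

variable {A : Type u} [CommRing A]

/-- The pairs (universal expression, its value at `(x, y)`). -/
noncomputable def rel (d : ℕ → A → A) (x y : A) :
    ((ℕ × ℕ) →₀ ℤ) →ₗ[ℤ] MvPolynomial (Fin 2) ℚ × A :=
  Finsupp.linearCombination ℤ fun ij => (mon ij, d ij.1 x * d ij.2 y)

variable {I : Ideal A} {d : ℕ → A → A}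
  (h_zero : ∀ x ∈ I, d 0 x = 1) (h_one : ∀ x ∈ I, d 1 x = x)
  (h_mem : ∀ (n : ℕ) (x : A), n ≠ 0 → x ∈ I → d n x ∈ I)
  (h_add : ∀ (n : ℕ) (x y : A), x ∈ I → y ∈ I →
    d n (x + y) = (Finset.antidiagonal n).sum fun k => d k.1 x * d k.2 y)
  (h_mul : ∀ (n : ℕ) (a x : A), x ∈ I → d n (a * x) = a ^ n * d n x)

variable (I d) in
/-- `x` satisfies the product and composition rules. -/
def Good (x : A) : Prop :=
  (∀ m n : ℕ, d m x * d n x = (m + n).choose m * d (m + n) x) ∧
    ∀ m n : ℕ, n ≠ 0 → d m (d n x) = Nat.uniformBell m n * d (m * n) x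

theorem snd_eq_of_fst_eq {x y : A} {p q : MvPolynomial (Fin 2) ℚ × A}
    (hp : p ∈ LinearMap.range (rel d x y)) (hq : q ∈ LinearMap.range (rel d x y))
    (h : p.1 = q.1) : p.2 = q.2 := by
  suffices H : ∀ c, (rel d x y c).1 = 0 → c = 0 by
    obtain ⟨a, rfl⟩ := hp
    obtain ⟨b, rfl⟩ := hq
    have := H (a - b) (by rw [map_sub, Prod.fst_sub, h, sub_self])
    rw [sub_eq_zero.1 this]
  intro c hc
  ext ij
  have h' := congrArg (coeff (Finsupp.single (0 : Fin 2) ij.1 + Finsupp.single 1 ij.2)) hc
  simp only [rel, Finsupp.linearCombination_apply, Finsupp.sum, Prod.fst_sum, Prod.smul_fst,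
    coeff_sum, coeff_smul, coeff_mon, coeff_zero, smul_ite, smul_zero, Finset.sum_ite_eq'] at h'
  by_contra hne
  rw [if_pos (Finsupp.mem_support_iff.2 hne), zsmul_eq_mul] at h'
  simp [Nat.factorial_ne_zero] at h'
  exact hne (by simpa using h')

theorem pair_mem (x y : A) (i j : ℕ) :
    (mon (i, j), d i x * d j y) ∈ LinearMap.range (rel d x y) :=
  ⟨Finsupp.single (i, j) 1, by simp [rel, Finsupp.linearCombination_single]⟩

theorem range_le {x y : A} {P : MvPolynomial (Fin 2) ℚ × A → Prop} (zero : P 0)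
    (add : ∀ p q, P p → P q → P (p + q)) (neg : ∀ p, P p → P (-p))
    (pair : ∀ i j, P (mon (i, j), d i x * d j y)) :
    ∀ p ∈ LinearMap.range (rel d x y), P p := by
  rintro _ ⟨c, rfl⟩
  induction c using Finsupp.induction_linear with
  | zero => simpa using zero
  | add f g hf hg => rw [map_add]; exact add _ _ hf hg
  | single ij n =>
    rw [rel, Finsupp.linearCombination_single]
    induction n with
    | zero => simpa using zero
    | succ k ih => rw [add_smul, one_smul]; exact add _ _ ih (pair _ _)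
    | pred k ih => rw [sub_smul, one_smul, sub_eq_add_neg]; exact add _ _ ih (neg _ (pair _ _))

variable {x y : A}

theorem mul_mem (hgx : Good d x) (hgy : Good d y) {p q : MvPolynomial (Fin 2) ℚ × A}
    (hp : p ∈ LinearMap.range (rel d x y)) (hq : q ∈ LinearMap.range (rel d x y)) :
    p * q ∈ LinearMap.range (rel d x y) := by
  revert q
  refine range_le (P := fun p => ∀ {q}, q ∈ LinearMap.range (rel d x y) →
    p * q ∈ LinearMap.range (rel d x y)) ?_ ?_ ?_ ?_ p hp
  · intro q _; simp
  · intro a b ha hb q hq; rw [add_mul]; exact add_mem (ha hq) (hb hq)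
  · intro a ha q hq; rw [neg_mul]; exact neg_mem (ha hq)
  intro i j q hq
  refine range_le (P := fun q => (mon (i, j), d i x * d j y) * q ∈ LinearMap.range (rel d x y))
    ?_ ?_ ?_ ?_ q hq
  · simp
  · intro a b ha hb; rw [mul_add]; exact add_mem ha hb
  · intro a ha; rw [mul_neg]; exact neg_mem ha
  intro k l
  have he : (mon (i, j), d i x * d j y) * (mon (k, l), d k x * d l y) =
      ((i + k).choose i * (j + l).choose j) •
        (mon (i + k, j + l), d (i + k) x * d (j + l) y) := by
    rw [nsmul_eq_mul, Nat.cast_mul]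
    refine Prod.ext ?_ ?_
    · simp only [mon_eq, Prod.fst_mul, Prod.fst_natCast]
      rw [mul_mul_mul_comm, gam.mul_dpow Submodule.mem_top, gam.mul_dpow Submodule.mem_top]
      ring
    · simp only [Prod.snd_mul, Prod.snd_natCast]
      rw [mul_mul_mul_comm, hgx.1, hgy.1]
      ring
  rw [he]
  exact nsmul_mem (pair_mem _ _ _ _) _

variable (hx : x ∈ I) (hy : y ∈ I)
include h_zero hx hy

theorem one_mem : (1 : MvPolynomial (Fin 2) ℚ × A) ∈ LinearMap.range (rel d x y) := by
  have h := pair_mem (d := d) x y 0 0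
  rwa [mon_eq, gam.dpow_zero Submodule.mem_top, gam.dpow_zero Submodule.mem_top, h_zero x hx,
    h_zero y hy, mul_one, mul_one] at h

theorem pow_mem (hgx : Good d x) (hgy : Good d y) {p : MvPolynomial (Fin 2) ℚ × A}
    (hp : p ∈ LinearMap.range (rel d x y)) (n : ℕ) : p ^ n ∈ LinearMap.range (rel d x y) := by
  induction n with
  | zero => rw [pow_zero]; exact one_mem h_zero hx hy
  | succ n ih => rw [pow_succ]; exact mul_mem hgx hgy ih hp

include h_one h_mem h_add h_mul

omit h_one hy in
theorem d_zero_right {n : ℕ} (hn : n ≠ 0) : d n 0 = 0 := by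
  have h := h_mul n 0 x hx
  rwa [zero_mul, zero_pow hn, zero_mul] at h

theorem good_add (hgx : Good d x) (hgy : Good d y) : Good d (x + y) := by
  classical
  let T : ℕ → MvPolynomial (Fin 2) ℚ × A := fun n => (gam.dpow n (X 0 + X 1), d n (x + y))
  let R := LinearMap.range (rel d x y)
  have hsum : ∀ n, T n =
      (Finset.antidiagonal n).sum fun k => (mon k, d k.1 x * d k.2 y) := by
    intro n
    refine Prod.ext ?_ ?_
    · rw [Prod.fst_sum]
      exact (gam.dpow_add Submodule.mem_top Submodule.mem_top).trans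
        (Finset.sum_congr rfl fun k _ => (mon_eq k.1 k.2).symm)
    · rw [Prod.snd_sum]; exact h_add n x y hx hy
  have hT : ∀ n, T n ∈ R := fun n => by
    rw [hsum]; exact Submodule.sum_mem _ fun k _ => pair_mem _ _ _ _
  let G : AddSubmonoid (MvPolynomial (Fin 2) ℚ × A) :=
    { carrier := {p | p.2 ∈ I ∧ ∀ k, (gam.dpow k p.1, d k p.2) ∈ R}
      add_mem' := fun {p q} hp hq => ⟨I.add_mem hp.1 hq.1, fun k => by
        have he : (gam.dpow k (p + q).1, d k (p + q).2) = (Finset.antidiagonal k).sum fun i =>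
            (gam.dpow i.1 p.1, d i.1 p.2) * (gam.dpow i.2 q.1, d i.2 q.2) := by
          refine Prod.ext ?_ ?_
          · rw [Prod.fst_sum]; exact gam.dpow_add Submodule.mem_top Submodule.mem_top
          · rw [Prod.snd_sum]; exact h_add k p.2 q.2 hp.1 hq.1
        rw [he]
        exact Submodule.sum_mem _ fun i _ => mul_mem hgx hgy (hp.2 _) (hq.2 _)⟩
      zero_mem' := ⟨I.zero_mem, fun k => by
        rcases eq_or_ne k 0 with rfl | hk
        · rw [gam.dpow_zero Submodule.mem_top, Prod.snd_zero, h_zero 0 I.zero_mem]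
          exact one_mem h_zero hx hy
        · rw [Prod.fst_zero, Prod.snd_zero, gam.dpow_eval_zero hk,
            d_zero_right h_zero h_mem h_add h_mul hx hk]
          exact R.zero_mem⟩ }
  have hG : ∀ n, n ≠ 0 → T n ∈ G := by
    intro n hn
    rw [hsum]
    refine AddSubmonoid.sum_mem _ fun k hk => ?_
    rw [Finset.HasAntidiagonal.mem_antidiagonal] at hk
    obtain ⟨i, j⟩ := k
    rcases eq_or_ne i 0 with rfl | hi
    · have hj : j ≠ 0 := fun h => hn (by subst h; exact hk.symm)
      simp only [mon_eq, gam.dpow_zero Submodule.mem_top, h_zero x hx, one_mul]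
      refine ⟨h_mem j y hj hy, fun k => ?_⟩
      have he : (gam.dpow k (gam.dpow j (X 1)), d k (d j y)) =
          Nat.uniformBell k j • (mon (0, k * j), d 0 x * d (k * j) y) := by
        rw [nsmul_eq_mul]
        refine Prod.ext ?_ ?_
        · simp only [mon_eq, Prod.fst_mul, Prod.fst_natCast]
          rw [gam.dpow_comp hj Submodule.mem_top, gam.dpow_zero Submodule.mem_top, one_mul]
        · simp only [Prod.snd_mul, Prod.snd_natCast]
          rw [hgy.2 k j hj, h_zero x hx, one_mul]
      rw [he]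
      exact nsmul_mem (pair_mem _ _ _ _) _
    · refine ⟨I.mul_mem_right _ (h_mem i x hi hx), fun k => ?_⟩
      have he : (gam.dpow k (mon (i, j)), d k (d i x * d j y)) =
          (mon (0, j), d 0 x * d j y) ^ k *
            (Nat.uniformBell k i • (mon (k * i, 0), d (k * i) x * d 0 y)) := by
        rw [nsmul_eq_mul]
        refine Prod.ext ?_ ?_
        · simp only [mon_eq, Prod.fst_mul, Prod.pow_fst, Prod.fst_natCast]
          rw [mul_comm (gam.dpow i _) (gam.dpow j _), gam.dpow_mul Submodule.mem_top,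
            gam.dpow_comp hi Submodule.mem_top, gam.dpow_zero Submodule.mem_top,
            gam.dpow_zero Submodule.mem_top, one_mul, mul_one]
        · simp only [Prod.snd_mul, Prod.pow_snd, Prod.snd_natCast]
          rw [mul_comm (d i x), h_mul k _ _ (h_mem i x hi hx), hgx.2 k i hi, h_zero x hx,
            h_zero y hy, one_mul, mul_one]
      rw [he]
      exact mul_mem hgx hgy (pow_mem h_zero hx hy hgx hgy (pair_mem _ _ _ _) k)
        (nsmul_mem (pair_mem _ _ _ _) _)
  constructor
  · intro m n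
    have h := snd_eq_of_fst_eq (mul_mem hgx hgy (hT m) (hT n))
      (nsmul_mem (hT (m + n)) ((m + n).choose m)) (by
        simp only [Prod.fst_mul, Prod.smul_fst, T, nsmul_eq_mul]
        exact gam.mul_dpow Submodule.mem_top)
    simpa [T, nsmul_eq_mul] using h
  · intro m n hn
    have h := snd_eq_of_fst_eq ((hG n hn).2 m)
      (nsmul_mem (hT (m * n)) (Nat.uniformBell m n)) (by
        simp only [Prod.smul_fst, T, nsmul_eq_mul]
        exact gam.dpow_comp hn Submodule.mem_top)
    simpa [T, nsmul_eq_mul] using h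

omit h_zero h_one h_add hy in
theorem good_mul (hgx : Good d x) (a : A) : Good d (a * x) := by
  constructor
  · intro m n
    rw [h_mul m a x hx, h_mul n a x hx, h_mul (m + n) a x hx, mul_mul_mul_comm, ← pow_add, hgx.1]
    ring
  · intro m n hn
    rw [h_mul n a x hx, h_mul m _ _ (h_mem n x hn hx), hgx.2 m n hn, h_mul (m * n) a x hx, ← pow_mul,
      mul_comm n m]
    ring

omit x y hx hy in
theorem good_of_span {S : Set A} (hS : Ideal.span S = I) (hgen : ∀ x ∈ S, Good d x) :
    ∀ z ∈ I, Good d z := by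
  intro z hz
  suffices H : z ∈ I ∧ Good d z from H.2
  have hsub : ∀ s ∈ S, s ∈ I := fun s hs => hS ▸ Ideal.subset_span hs
  have hz' : z ∈ Ideal.span S := hS.symm ▸ hz
  induction hz' using Submodule.span_induction with
  | mem s hs => exact ⟨hsub s hs, hgen s hs⟩
  | zero =>
    have d0 : ∀ k, k ≠ 0 → d k (0 : A) = 0 := fun k hk => by
      have := h_mul k 0 0 I.zero_mem
      rwa [zero_mul, zero_pow hk, zero_mul] at this
    refine ⟨I.zero_mem, fun m n => ?_, fun m n hn => ?_⟩
    · rcases eq_or_ne m 0 with rfl | hm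
      · simp [h_zero 0 I.zero_mem]
      · simp [d0 m hm, d0 (m + n) (by omega)]
    · rw [d0 n hn]
      rcases eq_or_ne m 0 with rfl | hm
      · simp [h_zero 0 I.zero_mem, Nat.uniformBell_zero_left]
      · simp [d0 m hm, d0 (m * n) (Nat.mul_ne_zero hm hn)]
  | add a b ha hb iha ihb =>
    obtain ⟨ha', hga⟩ := iha (hS ▸ ha) 
    obtain ⟨hb', hgb⟩ := ihb (hS ▸ hb)
    exact ⟨I.add_mem ha' hb', good_add h_zero h_one h_mem h_add h_mul ha' hb' hga hgb⟩
  | smul c a ha iha =>
    obtain ⟨ha', hga⟩ := iha (hS ▸ ha)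
    exact ⟨I.mul_mem_left c ha', good_mul h_mem h_mul ha' hga c⟩

omit x y hx hy in
/-- Divided powers determined on generators. -/
noncomputable def ofSpan (h_null : ∀ (n : ℕ) (x : A), x ∉ I → d n x = 0) {S : Set A}
    (hS : Ideal.span S = I) (hgen : ∀ x ∈ S, Good d x) : DividedPowers I where
  dpow := d
  dpow_null hx := h_null _ _ hx
  dpow_zero hx := h_zero _ hx
  dpow_one hx := h_one _ hx
  dpow_mem hn hx := h_mem _ _ hn hx
  dpow_add hx hy := h_add _ _ _ hx hy
  dpow_mul hx := h_mul _ _ _ hx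
  mul_dpow hx := (good_of_span h_zero h_one h_mem h_add h_mul hS hgen _ hx).1 _ _
  dpow_comp hn hx := (good_of_span h_zero h_one h_mem h_add h_mul hS hgen _ hx).2 _ _ hn

end Groth.Agent.DPow95.OfSpan
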