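import Groth.Agent.DPow95.OfSpan
import Mathlib.NumberTheory.Padics.PadicVal.Basic
import Mathlib.Combinatorics.Enumerative.Bell
import Mathlib.Data.Nat.Prime.Factorial

/-!
# Divided powers from the `p`-th divided power when all other primes are invertible
-/

universe u v

open MvPolynomial

namespace Groth.Agent.DPow95.Prime

/-- The constant `n! / (k! (p!)^k)` for `n = p k + r`. -/
def c (p n : ℕ) : ℕ := n.choose (n % p) * (n % p).factorial * Nat.uniformBell (n / p) p

theorem c_mul {p : ℕ} (hp : p.Prime) (n : ℕ) :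
    c p n * ((n / p).factorial * p.factorial ^ (n / p)) = n.factorial := by
  have h1 := Nat.uniformBell_mul_eq (n / p) hp.ne_zero
  have h2 : n - n % p = n / p * p := by
    have := Nat.div_add_mod n p; rw [mul_comm] at this; omega
  have h3 := Nat.choose_mul_factorial_mul_factorial (Nat.mod_le n p)
  rw [h2, ← h1] at h3
  rw [← h3, c]
  ring

theorem c_not_dvd {p : ℕ} (hp : p.Prime) (n : ℕ) : ¬ p ∣ c p n := by
  haveI : Fact p.Prime := ⟨hp⟩
  have hc := c_mul hp n
  have hc0 : c p n ≠ 0 := by
    intro h; rw [h, zero_mul] at hc; exact Nat.factorial_ne_zero n hc.symm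
  have hv := congrArg (padicValNat p) hc
  rw [padicValNat.mul hc0 (mul_ne_zero (Nat.factorial_ne_zero _) (pow_ne_zero _ (Nat.factorial_ne_zero _))),
    padicValNat.mul (Nat.factorial_ne_zero _) (pow_ne_zero _ (Nat.factorial_ne_zero _)),
    padicValNat.pow,
    ← padicValNat_mul_div_factorial (p := p) n, padicValNat_factorial_mul,
    show padicValNat p p.factorial = 1 by
      have := padicValNat_factorial_mul (p := p) 1
      simpa using this, mul_one] at hv
  exact fun h => absurd (one_le_padicValNat_of_dvd hc0 h) (by omega)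

theorem dpow_step {R : Type v} [CommRing R] {J : Ideal R} (δ : DividedPowers J) {p : ℕ}
    (hp : p.Prime) (n : ℕ) {u : R} (hu : u ∈ J) :
    (c p n : R) * δ.dpow n u = u ^ (n % p) * δ.dpow (n / p) (δ.dpow p u) := by
  have hn : n % p + n / p * p = n := by rw [mul_comm]; exact Nat.mod_add_div n p
  rw [δ.dpow_comp hp.ne_zero hu, ← δ.factorial_mul_dpow_eq_pow hu,
    mul_mul_mul_comm, δ.mul_dpow hu, hn, c]
  push_cast
  ring

variable {A : Type u} [CommRing A]

/-- The candidate `n`-th divided power. -/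
noncomputable def G (p : ℕ) (d : A → A) (n : ℕ) (x : A) : A :=
  if h : n = 0 ∨ p < 2 then 1
  else Ring.inverse (c p n : A) * x ^ (n % p) * G p d (n / p) (d x)
termination_by n
decreasing_by exact Nat.div_lt_self (by omega) (by omega)

section

variable {p : ℕ} (hp : p.Prime) (hA : ∀ n : ℕ, ¬ p ∣ n → IsUnit (n : A)) (d : A → A)

include hp hA in
theorem isUnit_c (n : ℕ) : IsUnit (c p n : A) := hA _ (c_not_dvd hp n)

theorem G_zero (x : A) : G p d 0 x = 1 := by rw [G, dif_pos (Or.inl rfl)]

include hp hA in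
theorem G_step (n : ℕ) (x : A) :
    (c p n : A) * G p d n x = x ^ (n % p) * G p d (n / p) (d x) := by
  rcases eq_or_ne n 0 with rfl | hn
  · simp [G_zero, c, Nat.uniformBell_zero_left]
  · conv_lhs => rw [G, dif_neg (by have := hp.two_le; omega)]
    rw [← mul_assoc, ← mul_assoc, Ring.mul_inverse_cancel _ (isUnit_c hp hA n), one_mul]

include hp hA in
theorem G_one (x : A) : G p d 1 x = x := by
  have h := G_step hp hA d 1 x
  have hc : c p 1 = 1 := by
    simp [c, Nat.mod_eq_of_lt hp.one_lt, Nat.div_eq_of_lt hp.one_lt, Nat.uniformBell_zero_left]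
  rw [hc, Nat.cast_one, one_mul, Nat.mod_eq_of_lt hp.one_lt, Nat.div_eq_of_lt hp.one_lt, G_zero,
    mul_one, pow_one] at h
  exact h

include hp hA in
theorem G_prime (x : A) : G p d p x = d x := by
  have h := G_step hp hA d p x
  have hc : c p p = 1 := by
    simp [c, Nat.div_self hp.pos, Nat.uniformBell_one_left]
  rw [hc, Nat.cast_one, one_mul, Nat.mod_self, Nat.div_self hp.pos, G_one hp hA, pow_zero, one_mul] at h
  exact h

variable {I : Ideal A} (hdI : ∀ x ∈ I, d x ∈ I)
  (h1 : ∀ x ∈ I, (p.factorial : A) * d x = x ^ p)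
  (h2 : ∀ (a x : A), x ∈ I → d (a * x) = a ^ p * d x)
  (h3 : ∀ x ∈ I, ∀ y ∈ I, d (x + y) = d x + d y +
    ((Finset.antidiagonal p).filter fun k => 0 < k.1 ∧ 0 < k.2).sum
      fun k => Ring.inverse ((k.1.factorial * k.2.factorial : ℕ) : A) * x ^ k.1 * y ^ k.2)

include hp hA hdI

theorem G_mem : ∀ n, n ≠ 0 → ∀ x ∈ I, G p d n x ∈ I := by
  intro n
  induction n using Nat.strong_induction_on with
  | h n ih =>
    intro hn x hx
    rw [G, dif_neg (by have := hp.two_le; omega)]
    rcases eq_or_ne (n % p) 0 with hr | hr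
    · refine Ideal.mul_mem_left _ _ (ih _ (Nat.div_lt_self (by omega) hp.one_lt) ?_ _ (hdI x hx))
      intro hk
      have := Nat.div_add_mod n p
      rw [hk, hr, mul_zero] at this
      omega
    · exact Ideal.mul_mem_right _ _ (Ideal.mul_mem_left _ _ (Ideal.pow_mem_of_mem I hx _ (Nat.pos_of_ne_zero hr)))

include h2

theorem G_smul : ∀ n, ∀ (a x : A), x ∈ I → G p d n (a * x) = a ^ n * G p d n x := by
  intro n
  induction n using Nat.strong_induction_on with
  | h n ih =>
    intro a x hx
    rcases eq_or_ne n 0 with rfl | hn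
    · simp [G_zero]
    · apply (isUnit_c hp hA n).mul_left_cancel
      rw [G_step hp hA, mul_left_comm, G_step hp hA, h2 a x hx,
        ih _ (Nat.div_lt_self (by omega) hp.one_lt) _ _ (hdI x hx), mul_pow, ← pow_mul]
      calc a ^ (n % p) * x ^ (n % p) * (a ^ (p * (n / p)) * G p d (n / p) (d x))
          = a ^ (n % p + p * (n / p)) * (x ^ (n % p) * G p d (n / p) (d x)) := by rw [pow_add]; ring
        _ = _ := by rw [Nat.mod_add_div]

include h1

omit h2 in
theorem G_mul : ∀ N a b, a + b = N → ∀ x ∈ I,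
    G p d a x * G p d b x = (N.choose a : A) * G p d N x := by
  intro N
  induction N using Nat.strong_induction_on with
  | h N ih =>
    intro a b hab x hx
    rcases eq_or_ne N 0 with rfl | hN
    · obtain rfl : a = 0 := by omega
      obtain rfl : b = 0 := by omega
      simp [G_zero]
    apply (isUnit_c hp hA a).mul_left_cancel
    apply (isUnit_c hp hA b).mul_left_cancel
    apply (isUnit_c hp hA N).mul_left_cancel
    have hL : (c p N : A) * ((c p b : A) * ((c p a : A) * (G p d a x * G p d b x))) =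
        (c p N : A) * (x ^ (a % p + b % p) * (G p d (a / p) (d x) * G p d (b / p) (d x))) := by
      rw [show (c p b : A) * ((c p a : A) * (G p d a x * G p d b x)) =
        ((c p a : A) * G p d a x) * ((c p b : A) * G p d b x) by ring,
        G_step hp hA, G_step hp hA, pow_add]
      ring
    have hR : (c p N : A) * ((c p b : A) * ((c p a : A) * ((N.choose a : A) * G p d N x))) =
        ((c p a * c p b * N.choose a : ℕ) : A) * (x ^ (N % p) * G p d (N / p) (d x)) := by
      rw [← G_step hp hA]; push_cast; ring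
    rw [hL, hR]
    have hlt : N / p < N := Nat.div_lt_self (by omega) hp.one_lt
    have hdm : ∀ n, p * (n / p) + n % p = n := fun n => Nat.div_add_mod n p
    have hra := Nat.mod_lt a hp.pos
    have hrb := Nat.mod_lt b hp.pos
    by_cases hcar : a % p + b % p < p
    · have hq : N / p = a / p + b / p ∧ N % p = a % p + b % p := by
        rw [Nat.div_mod_unique hp.pos]
        exact ⟨by rw [Nat.mul_add]; have := hdm a; have := hdm b; omega, hcar⟩
      have hid : c p a * c p b * N.choose a = c p N * (a / p + b / p).choose (a / p) := by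
        have hca := c_mul hp a
        have hcb := c_mul hp b
        have hcN := c_mul hp N
        rw [hq.1] at hcN
        have hch : N.choose a * a.factorial * b.factorial = N.factorial := by
          rw [← hab, Nat.choose_symm_add]; exact Nat.add_choose_mul_factorial_mul_factorial a b
        have hch' : (a / p + b / p).choose (a / p) * (a / p).factorial * (b / p).factorial = (a / p + b / p).factorial := by
          rw [Nat.choose_symm_add]; exact Nat.add_choose_mul_factorial_mul_factorial _ _
        apply Nat.eq_of_mul_eq_mul_right (m := (a / p).factorial * (b / p).factorial * p.factorial ^ (a / p + b / p))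
          (by have := p.factorial_pos; have := (a / p).factorial_pos; have := (b / p).factorial_pos; positivity)
        calc _ = N.choose a * (c p a * ((a / p).factorial * p.factorial ^ (a / p))) *
              (c p b * ((b / p).factorial * p.factorial ^ (b / p))) := by rw [pow_add]; ring
          _ = N.factorial := by rw [hca, hcb, hch]
          _ = _ := by rw [← hcN, ← hch']; ring
      rw [hid, ih _ (hq.1 ▸ hlt) _ _ rfl _ (hdI x hx), hq.1, hq.2]
      push_cast
      ring
    · have hq : N / p = a / p + b / p + 1 ∧ N % p = a % p + b % p - p := by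
        rw [Nat.div_mod_unique hp.pos]
        exact ⟨by rw [Nat.mul_add, Nat.mul_add, mul_one]; have := hdm a; have := hdm b; omega, by omega⟩
      have hid : c p a * c p b * N.choose a =
          c p N * ((a / p + b / p).choose (a / p) * p.factorial * (a / p + b / p + 1)) := by
        have hca := c_mul hp a
        have hcb := c_mul hp b
        have hcN := c_mul hp N
        rw [hq.1, Nat.factorial_succ] at hcN
        have hch : N.choose a * a.factorial * b.factorial = N.factorial := by
          rw [← hab, Nat.choose_symm_add]; exact Nat.add_choose_mul_factorial_mul_factorial a b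
        have hch' : (a / p + b / p).choose (a / p) * (a / p).factorial * (b / p).factorial = (a / p + b / p).factorial := by
          rw [Nat.choose_symm_add]; exact Nat.add_choose_mul_factorial_mul_factorial _ _
        apply Nat.eq_of_mul_eq_mul_right (m := (a / p).factorial * (b / p).factorial * p.factorial ^ (a / p + b / p))
          (by have := p.factorial_pos; have := (a / p).factorial_pos; have := (b / p).factorial_pos; positivity)
        calc _ = N.choose a * (c p a * ((a / p).factorial * p.factorial ^ (a / p))) *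
              (c p b * ((b / p).factorial * p.factorial ^ (b / p))) := by rw [pow_add]; ring
          _ = N.factorial := by rw [hca, hcb, hch]
          _ = _ := by rw [← hcN, ← hch']; ring
      have hsplit : x ^ (a % p + b % p) = x ^ (N % p) * ((p.factorial : A) * G p d 1 (d x)) := by
        rw [G_one hp hA, h1 x hx, ← pow_add, hq.2]
        congr 1; omega
      have hone : G p d 1 (d x) * G p d (a / p + b / p) (d x) =
          ((N / p).choose 1 : A) * G p d (N / p) (d x) :=
        ih _ hlt 1 _ (by rw [hq.1]; ring) _ (hdI x hx)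
      rw [Nat.choose_one_right] at hone
      rw [hid, ih (a / p + b / p) (by omega) _ _ rfl _ (hdI x hx), hsplit,
        show x ^ (N % p) * ((p.factorial : A) * G p d 1 (d x)) *
            (((a / p + b / p).choose (a / p) : A) * G p d (a / p + b / p) (d x)) =
          x ^ (N % p) * (p.factorial : A) * ((a / p + b / p).choose (a / p) : A) *
            (G p d 1 (d x) * G p d (a / p + b / p) (d x)) by ring, hone, hq.1]
      push_cast
      ring

/-- Elements whose multiple by a unit natural number lies in the span. -/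
noncomputable def sat (x y : A) : Submodule ℤ (MvPolynomial (Fin 2) ℚ × A) where
  carrier := {q | ∃ N : ℕ, IsUnit (N : A) ∧ N • q ∈ LinearMap.range (OfSpan.rel (G p d) x y)}
  zero_mem' := ⟨1, by simp, by simp⟩
  add_mem' := by
    rintro a b ⟨M, hM, ha⟩ ⟨N, hN, hb⟩
    refine ⟨M * N, by rw [Nat.cast_mul]; exact hM.mul hN, ?_⟩
    rw [smul_add, mul_comm M N, mul_smul, mul_comm N M, mul_smul]
    exact add_mem (nsmul_mem ha _) (nsmul_mem hb _)
  smul_mem' := by
    rintro z a ⟨M, hM, ha⟩
    exact ⟨M, hM, by rw [smul_comm]; exact Submodule.smul_mem _ z ha⟩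

omit hp hA hdI h1 h2 in
theorem mem_sat {x y : A} {q : MvPolynomial (Fin 2) ℚ × A}
    (h : q ∈ LinearMap.range (OfSpan.rel (G p d) x y)) : q ∈ sat (p := p) d x y :=
  ⟨1, by simp, by rwa [one_smul]⟩

omit hp hA hdI h1 h2 in
theorem sat_cancel {x y : A} {q : MvPolynomial (Fin 2) ℚ × A} {N : ℕ} (hN : IsUnit (N : A))
    (h : N • q ∈ sat (p := p) d x y) : q ∈ sat (p := p) d x y := by
  obtain ⟨M, hM, hq⟩ := h
  exact ⟨M * N, by rw [Nat.cast_mul]; exact hM.mul hN, by rwa [mul_smul]⟩

omit hp hA hdI h1 h2 in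
theorem sat_ext {x y : A} {q q' : MvPolynomial (Fin 2) ℚ × A}
    (hq : q ∈ sat (p := p) d x y) (hq' : q' ∈ sat (p := p) d x y) (h : q.1 = q'.1) : q.2 = q'.2 := by
  obtain ⟨M, hM, hq⟩ := hq
  obtain ⟨N, hN, hq'⟩ := hq'
  have h' := OfSpan.snd_eq_of_fst_eq (nsmul_mem hq N) (nsmul_mem hq' M)
    (by simp only [Prod.smul_fst, h, smul_comm N M])
  simp only [Prod.smul_snd, smul_smul, mul_comm M N] at h'
  rw [nsmul_eq_mul, nsmul_eq_mul, Nat.cast_mul] at h'
  exact (hN.mul hM).mul_left_cancel h'

omit h2 in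
theorem rel_mul {x y : A} (hx : x ∈ I) (hy : y ∈ I) {q q' : MvPolynomial (Fin 2) ℚ × A}
    (hq : q ∈ LinearMap.range (OfSpan.rel (G p d) x y))
    (hq' : q' ∈ LinearMap.range (OfSpan.rel (G p d) x y)) :
    q * q' ∈ LinearMap.range (OfSpan.rel (G p d) x y) := by
  revert q'
  refine OfSpan.range_le (P := fun q => ∀ {q'}, q' ∈ LinearMap.range (OfSpan.rel (G p d) x y) →
    q * q' ∈ LinearMap.range (OfSpan.rel (G p d) x y)) ?_ ?_ ?_ ?_ q hq
  · intro q _; simp
  · intro a b ha hb q hq; rw [add_mul]; exact add_mem (ha hq) (hb hq)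
  · intro a ha q hq; rw [neg_mul]; exact neg_mem (ha hq)
  intro i j q hq
  refine OfSpan.range_le (P := fun q => (OfSpan.mon (i, j), G p d i x * G p d j y) * q ∈
    LinearMap.range (OfSpan.rel (G p d) x y)) ?_ ?_ ?_ ?_ q hq
  · simp
  · intro a b ha hb; rw [mul_add]; exact add_mem ha hb
  · intro a ha; rw [mul_neg]; exact neg_mem ha
  intro k l
  have he : (OfSpan.mon (i, j), G p d i x * G p d j y) * (OfSpan.mon (k, l), G p d k x * G p d l y) =
      ((i + k).choose i * (j + l).choose j) •
        (OfSpan.mon (i + k, j + l), G p d (i + k) x * G p d (j + l) y) := by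
    rw [nsmul_eq_mul, Nat.cast_mul]
    refine Prod.ext ?_ ?_
    · simp only [OfSpan.mon_eq, Prod.fst_mul, Prod.fst_natCast]
      rw [mul_mul_mul_comm, OfSpan.gam.mul_dpow Submodule.mem_top, OfSpan.gam.mul_dpow Submodule.mem_top]
      ring
    · simp only [Prod.snd_mul, Prod.snd_natCast]
      rw [mul_mul_mul_comm, G_mul hp hA d hdI h1 _ i k rfl x hx, G_mul hp hA d hdI h1 _ j l rfl y hy]
      ring
  rw [he]
  exact nsmul_mem (OfSpan.pair_mem _ _ _ _) _

omit h2 in
theorem sat_mul {x y : A} (hx : x ∈ I) (hy : y ∈ I) {q q' : MvPolynomial (Fin 2) ℚ × A}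
    (hq : q ∈ sat (p := p) d x y) (hq' : q' ∈ sat (p := p) d x y) : q * q' ∈ sat (p := p) d x y := by
  obtain ⟨M, hM, hq⟩ := hq
  obtain ⟨N, hN, hq'⟩ := hq'
  refine ⟨M * N, by rw [Nat.cast_mul]; exact hM.mul hN, ?_⟩
  rw [← smul_mul_smul_comm]
  exact rel_mul hp hA d hdI h1 hx hy hq hq'

omit hdI h1 h2 in
theorem pair (x y : A) (i j : ℕ) :
    (OfSpan.gam.dpow i (X 0) * OfSpan.gam.dpow j (X 1), G p d i x * G p d j y) ∈ sat (p := p) d x y :=
  mem_sat d (by rw [← OfSpan.mon_eq]; exact OfSpan.pair_mem _ _ _ _)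

omit h2 in
theorem sat_pow {x y : A} (hx : x ∈ I) (hy : y ∈ I) {q : MvPolynomial (Fin 2) ℚ × A}
    (hq : q ∈ sat (p := p) d x y) (n : ℕ) : q ^ n ∈ sat (p := p) d x y := by
  induction n with
  | zero =>
    have h := pair hp hA d x y 0 0
    rw [OfSpan.gam.dpow_zero Submodule.mem_top, OfSpan.gam.dpow_zero Submodule.mem_top,
      G_zero, G_zero, mul_one, mul_one] at h
    rw [pow_zero]; exact h
  | succ n ih => rw [pow_succ]; exact sat_mul hp hA d hdI h1 hx hy ih hq

omit hdI h1 h2 in
theorem step_pair (n : ℕ) (u : MvPolynomial (Fin 2) ℚ) (a : A) :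
    c p n • (OfSpan.gam.dpow n u, G p d n a) =
      (u, a) ^ (n % p) * (OfSpan.gam.dpow (n / p) (OfSpan.gam.dpow p u), G p d (n / p) (d a)) := by
  refine Prod.ext ?_ ?_
  · rw [Prod.smul_fst, Prod.fst_mul, Prod.pow_fst, nsmul_eq_mul]
    exact dpow_step OfSpan.gam hp n Submodule.mem_top
  · rw [Prod.smul_snd, Prod.snd_mul, Prod.pow_snd, nsmul_eq_mul]
    exact G_step hp hA d n a

omit hdI h1 h2 in
theorem left_mem (x y : A) (i : ℕ) :
    (OfSpan.gam.dpow i (X 0), G p d i x) ∈ sat (p := p) d x y := by
  have h := pair hp hA d x y i 0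
  rwa [OfSpan.gam.dpow_zero Submodule.mem_top, G_zero, mul_one, mul_one] at h

omit hdI h1 h2 in
theorem right_mem (x y : A) (j : ℕ) :
    (OfSpan.gam.dpow j (X 1), G p d j y) ∈ sat (p := p) d x y := by
  have h := pair hp hA d x y 0 j
  rwa [OfSpan.gam.dpow_zero Submodule.mem_top, G_zero, one_mul, one_mul] at h

omit hdI h1 h2 in
/-- Divided powers of the `p`-th divided power. -/
theorem comp_p (n : ℕ) (u : MvPolynomial (Fin 2) ℚ) (a : A) :
    c p (n * p) • (OfSpan.gam.dpow (n * p) u, G p d (n * p) a) =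
      (OfSpan.gam.dpow n (OfSpan.gam.dpow p u), G p d n (d a)) := by
  rw [step_pair hp hA d, Nat.mul_mod_left, Nat.mul_div_cancel _ hp.pos, pow_zero, one_mul]

include h3

set_option maxHeartbeats 1000000 in
theorem G_add : ∀ n, ∀ x ∈ I, ∀ y ∈ I,
    G p d n (x + y) = ∑ k ∈ Finset.antidiagonal n, G p d k.1 x * G p d k.2 y := by
  intro n
  induction n using Nat.strong_induction_on with
  | h n ih =>
    intro x hx y hy
    rcases eq_or_ne n 0 with rfl | hn
    · simp [G_zero]
    have hk : n / p < n := Nat.div_lt_self (by omega) hp.one_lt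
    let S := sat (p := p) d x y
    have hsum : (OfSpan.gam.dpow n (X 0 + X 1),
        ∑ k ∈ Finset.antidiagonal n, G p d k.1 x * G p d k.2 y) ∈ S := by
      rw [show (OfSpan.gam.dpow n (X 0 + X 1), ∑ k ∈ Finset.antidiagonal n, G p d k.1 x * G p d k.2 y) =
        ∑ k ∈ Finset.antidiagonal n,
          (OfSpan.gam.dpow k.1 (X 0) * OfSpan.gam.dpow k.2 (X 1), G p d k.1 x * G p d k.2 y) from
        Prod.ext (by rw [Prod.fst_sum]; exact OfSpan.gam.dpow_add Submodule.mem_top Submodule.mem_top)
          (by rw [Prod.snd_sum])]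
      exact Submodule.sum_mem _ fun k _ => pair hp hA d x y _ _
    suffices h : (OfSpan.gam.dpow n (X 0 + X 1), G p d n (x + y)) ∈ S from sat_ext d h hsum rfl
    let Gs : AddSubmonoid (MvPolynomial (Fin 2) ℚ × A) :=
      { carrier := {q | q.2 ∈ I ∧ ∀ k < n, (OfSpan.gam.dpow k q.1, G p d k q.2) ∈ S}
        add_mem' := fun {q r} hq hr => ⟨I.add_mem hq.1 hr.1, fun k hk => by
          rw [show (OfSpan.gam.dpow k (q + r).1, G p d k (q + r).2) = ∑ i ∈ Finset.antidiagonal k,
              (OfSpan.gam.dpow i.1 q.1, G p d i.1 q.2) * (OfSpan.gam.dpow i.2 r.1, G p d i.2 r.2) from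
            Prod.ext (by rw [Prod.fst_sum]; exact OfSpan.gam.dpow_add Submodule.mem_top Submodule.mem_top)
              (by rw [Prod.snd_sum]; exact ih k hk q.2 hq.1 r.2 hr.1)]
          exact Submodule.sum_mem _ fun i hi => by
            rw [Finset.mem_antidiagonal] at hi
            exact sat_mul hp hA d hdI h1 hx hy (hq.2 _ (by omega)) (hr.2 _ (by omega))⟩
        zero_mem' := ⟨I.zero_mem, fun k _ => by
          rcases eq_or_ne k 0 with rfl | hk0
          · rw [OfSpan.gam.dpow_zero Submodule.mem_top, G_zero]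
            have h := sat_pow hp hA d hdI h1 hx hy (left_mem hp hA d x y 0) 0
            rwa [pow_zero] at h
          · rw [Prod.fst_zero, Prod.snd_zero, OfSpan.gam.dpow_eval_zero hk0]
            have h0 : G p d k (0 : A) = 0 := by
              have h := G_smul hp hA d hdI h2 k 0 x hx
              rwa [zero_mul, zero_pow hk0, zero_mul] at h
            rw [h0]; exact S.zero_mem⟩ }
    have hkey : (OfSpan.gam.dpow p (X 0 + X 1), d (x + y)) ∈ Gs := by
      have hfst : OfSpan.gam.dpow p (X 0 + X 1 : MvPolynomial (Fin 2) ℚ) =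
          OfSpan.gam.dpow p (X 0) + OfSpan.gam.dpow p (X 1) +
            ((Finset.antidiagonal p).filter fun k => 0 < k.1 ∧ 0 < k.2).sum
              fun k => OfSpan.gam.dpow k.1 (X 0) * OfSpan.gam.dpow k.2 (X 1) := by
        have hnot : (Finset.antidiagonal p).filter (fun k => ¬(0 < k.1 ∧ 0 < k.2)) = {(p, 0), (0, p)} := by
          ext ⟨i, j⟩
          simp only [Finset.mem_filter, Finset.mem_antidiagonal, Finset.mem_insert, Finset.mem_singleton,
            Prod.mk.injEq]
          omega
        rw [OfSpan.gam.dpow_add Submodule.mem_top Submodule.mem_top,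
          ← Finset.sum_filter_add_sum_filter_not (Finset.antidiagonal p) (fun k => 0 < k.1 ∧ 0 < k.2),
          hnot, Finset.sum_pair (by simp [hp.ne_zero]), OfSpan.gam.dpow_zero Submodule.mem_top,
          OfSpan.gam.dpow_zero Submodule.mem_top]
        ring
      rw [show (OfSpan.gam.dpow p (X 0 + X 1), d (x + y)) =
        (OfSpan.gam.dpow p (X 0), d x) + (OfSpan.gam.dpow p (X 1), d y) +
          ((Finset.antidiagonal p).filter fun k => 0 < k.1 ∧ 0 < k.2).sum
            (fun k => (OfSpan.gam.dpow k.1 (X 0) * OfSpan.gam.dpow k.2 (X 1),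
              Ring.inverse ((k.1.factorial * k.2.factorial : ℕ) : A) * x ^ k.1 * y ^ k.2)) from
        Prod.ext (by simp only [Prod.fst_add, Prod.fst_sum]; exact hfst)
          (by simp only [Prod.snd_add, Prod.snd_sum]; exact h3 x hx y hy)]
      refine add_mem (add_mem ⟨hdI x hx, fun k _ => ?_⟩ ⟨hdI y hy, fun k _ => ?_⟩)
        (sum_mem fun k hk => ?_)
      · rw [← comp_p hp hA d k (X 0) x]; exact nsmul_mem (left_mem hp hA d x y _) _
      · rw [← comp_p hp hA d k (X 1) y]; exact nsmul_mem (right_mem hp hA d x y _) _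
      rw [Finset.mem_filter, Finset.mem_antidiagonal] at hk
      obtain ⟨i, j⟩ := k
      obtain ⟨hij, hi, hj⟩ := hk
      dsimp only at hij hi hj ⊢
      have hu : IsUnit ((i.factorial * j.factorial : ℕ) : A) := hA _ fun h => by
        rcases hp.dvd_mul.1 h with h | h <;> rw [hp.dvd_factorial] at h <;> omega
      refine ⟨Ideal.mul_mem_left _ _ (Ideal.pow_mem_of_mem I hy _ hj), fun k _ => ?_⟩
      refine sat_cancel d (N := (i.factorial * j.factorial) ^ k) (by rw [Nat.cast_pow]; exact hu.pow k) ?_
      have he : (i.factorial * j.factorial) ^ k •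
          (OfSpan.gam.dpow k (OfSpan.gam.dpow i (X 0 : MvPolynomial (Fin 2) ℚ) * OfSpan.gam.dpow j (X 1)),
            G p d k (Ring.inverse ((i.factorial * j.factorial : ℕ) : A) * x ^ i * y ^ j)) =
          ((OfSpan.gam.dpow 1 (X 0), G p d 1 x) ^ (i - 1) * (OfSpan.gam.dpow 1 (X 1), G p d 1 y) ^ j) ^ k *
            (OfSpan.gam.dpow k (X 0), G p d k x) := by
        rw [OfSpan.gam.dpow_one Submodule.mem_top, OfSpan.gam.dpow_one Submodule.mem_top,
          G_one hp hA, G_one hp hA]
        obtain ⟨i', rfl⟩ := Nat.exists_eq_add_one.2 hi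
        refine Prod.ext ?_ ?_
        · rw [Prod.smul_fst, Prod.fst_mul, Prod.pow_fst, Prod.fst_mul, Prod.pow_fst, Prod.pow_fst,
            nsmul_eq_mul, Nat.cast_pow, ← OfSpan.gam.dpow_mul Submodule.mem_top,
            ← OfSpan.gam.dpow_mul Submodule.mem_top]
          congr 1
          rw [Nat.cast_mul, show ((i' + 1).factorial : MvPolynomial (Fin 2) ℚ) * (j.factorial : MvPolynomial (Fin 2) ℚ) *
              (OfSpan.gam.dpow (i' + 1) (X 0) * OfSpan.gam.dpow j (X 1)) =
            (((i' + 1).factorial : MvPolynomial (Fin 2) ℚ) * OfSpan.gam.dpow (i' + 1) (X 0)) *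
              ((j.factorial : MvPolynomial (Fin 2) ℚ) * OfSpan.gam.dpow j (X 1)) by ring,
            OfSpan.gam.factorial_mul_dpow_eq_pow Submodule.mem_top,
            OfSpan.gam.factorial_mul_dpow_eq_pow Submodule.mem_top, Nat.add_sub_cancel]
          ring
        · rw [Prod.smul_snd, Prod.snd_mul, Prod.pow_snd, Prod.snd_mul, Prod.pow_snd, Prod.pow_snd,
            nsmul_eq_mul, Nat.cast_pow, Nat.add_sub_cancel,
            show Ring.inverse (((i' + 1).factorial * j.factorial : ℕ) : A) * x ^ (i' + 1) * y ^ j =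
              (Ring.inverse (((i' + 1).factorial * j.factorial : ℕ) : A) * (x ^ i' * y ^ j)) * x by ring,
            G_smul hp hA d hdI h2 k _ x hx, ← mul_assoc, ← mul_pow, ← mul_assoc,
            Ring.mul_inverse_cancel _ hu, one_mul]
      rw [he]
      exact sat_mul hp hA d hdI h1 hx hy (sat_pow hp hA d hdI h1 hx hy
        (sat_mul hp hA d hdI h1 hx hy (sat_pow hp hA d hdI h1 hx hy (left_mem hp hA d x y 1) _)
          (sat_pow hp hA d hdI h1 hx hy (right_mem hp hA d x y 1) _)) _) (left_mem hp hA d x y k)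
    have h11 : ((X 0 + X 1 : MvPolynomial (Fin 2) ℚ), x + y) ∈ S := by
      have hl := left_mem hp hA d x y 1
      have hr := right_mem hp hA d x y 1
      rw [OfSpan.gam.dpow_one Submodule.mem_top, G_one hp hA] at hl hr
      have h := add_mem hl hr
      rw [Prod.mk_add_mk] at h
      exact h
    refine sat_cancel d (isUnit_c hp hA n) ?_
    rw [step_pair hp hA d]
    exact sat_mul hp hA d hdI h1 hx hy (sat_pow hp hA d hdI h1 hx hy h11 _) (hkey.2 _ hk)

set_option maxHeartbeats 1000000 in
omit h3 in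
theorem G_comp : ∀ n, n ≠ 0 → ∀ x ∈ I, ∀ m,
    G p d m (G p d n x) = (Nat.uniformBell m n : A) * G p d (m * n) x := by
  intro n
  induction n using Nat.strong_induction_on with
  | h n ih =>
    intro hn x hx m
    let S := sat (p := p) d x x
    let T : ℕ → MvPolynomial (Fin 2) ℚ × A := fun i => (OfSpan.gam.dpow i (X 0), G p d i x)
    have hT : ∀ i, T i ∈ S := fun i => left_mem hp hA d x x i
    suffices h : (OfSpan.gam.dpow m (OfSpan.gam.dpow n (X 0)), G p d m (G p d n x)) ∈ S by
      have h2' := sat_ext d h (nsmul_mem (hT (m * n)) (Nat.uniformBell m n))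
        (by rw [Prod.smul_fst, nsmul_eq_mul]; exact OfSpan.gam.dpow_comp hn Submodule.mem_top)
      exact h2'.trans (by rw [Prod.smul_snd, nsmul_eq_mul])
    refine sat_cancel d (N := c p n ^ m) (by rw [Nat.cast_pow]; exact (isUnit_c hp hA n).pow m) ?_
    have hmul : c p n ^ m • (OfSpan.gam.dpow m (OfSpan.gam.dpow n (X 0)), G p d m (G p d n x)) =
        (OfSpan.gam.dpow m (X 0 ^ (n % p) * OfSpan.gam.dpow (n / p) (OfSpan.gam.dpow p (X 0))),
          G p d m (x ^ (n % p) * G p d (n / p) (d x))) := by
      refine Prod.ext ?_ ?_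
      · rw [Prod.smul_fst, nsmul_eq_mul, Nat.cast_pow, ← OfSpan.gam.dpow_mul Submodule.mem_top,
          dpow_step OfSpan.gam hp n Submodule.mem_top]
      · rw [Prod.smul_snd, nsmul_eq_mul, Nat.cast_pow,
          ← G_smul hp hA d hdI h2 m _ _ (G_mem hp hA d hdI n hn x hx), G_step hp hA]
    rw [hmul]
    rcases Nat.eq_zero_or_pos (n % p) with hr | hr
    · have hk0 : n / p ≠ 0 := fun h => by
        have := Nat.div_add_mod n p; rw [h, hr, mul_zero] at this; omega
      rw [hr, pow_zero, one_mul, pow_zero, one_mul,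
        OfSpan.gam.dpow_comp hk0 Submodule.mem_top,
        ih _ (Nat.div_lt_self (by omega) hp.one_lt) hk0 _ (hdI x hx) m]
      have he : (((Nat.uniformBell m (n / p) : MvPolynomial (Fin 2) ℚ) *
          OfSpan.gam.dpow (m * (n / p)) (OfSpan.gam.dpow p (X 0)),
          (Nat.uniformBell m (n / p) : A) * G p d (m * (n / p)) (d x))) =
          Nat.uniformBell m (n / p) • (c p (m * (n / p) * p) • T (m * (n / p) * p)) := by
        rw [show c p (m * (n / p) * p) • T (m * (n / p) * p) = _ from comp_p hp hA d _ (X 0) x,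
          Prod.smul_mk, nsmul_eq_mul, nsmul_eq_mul]
      rw [he]
      exact nsmul_mem (nsmul_mem (hT _) _) _
    · obtain ⟨r, hr'⟩ := Nat.exists_eq_add_one.2 hr
      have hX : (X 0 : MvPolynomial (Fin 2) ℚ) ^ (n % p) * OfSpan.gam.dpow (n / p) (OfSpan.gam.dpow p (X 0)) =
          (X 0 ^ r * OfSpan.gam.dpow (n / p) (OfSpan.gam.dpow p (X 0))) * X 0 := by rw [hr']; ring
      have hx' : x ^ (n % p) * G p d (n / p) (d x) = (x ^ r * G p d (n / p) (d x)) * x := by rw [hr']; ring
      rw [hX, hx', OfSpan.gam.dpow_mul Submodule.mem_top, G_smul hp hA d hdI h2 m _ x hx]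
      have hbase : (X 0 ^ r * OfSpan.gam.dpow (n / p) (OfSpan.gam.dpow p (X 0)),
          x ^ r * G p d (n / p) (d x)) = T 1 ^ r * (c p ((n / p) * p) • T ((n / p) * p)) := by
        rw [show c p ((n / p) * p) • T ((n / p) * p) = _ from comp_p hp hA d _ (X 0) x]
        simp only [T, OfSpan.gam.dpow_one Submodule.mem_top, G_one hp hA]
        refine Prod.ext ?_ ?_
        · rw [Prod.fst_mul, Prod.pow_fst]
        · rw [Prod.snd_mul, Prod.pow_snd]
      have hB := sat_mul hp hA d hdI h1 hx hx (sat_pow hp hA d hdI h1 hx hx (hT 1) r)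
        (nsmul_mem (hT ((n / p) * p)) (c p ((n / p) * p)))
      rw [← hbase] at hB
      have hfin := sat_mul hp hA d hdI h1 hx hx (sat_pow hp hA d hdI h1 hx hx hB m) (hT m)
      simp only [T, Prod.pow_mk, Prod.mk_mul_mk] at hfin
      exact hfin

end

/-- `S2212`. -/
theorem existsUnique_dividedPowers (p : ℕ) (hp : p.Prime) (hA : ∀ n : ℕ, ¬ p ∣ n → IsUnit (n : A))
    {I : Ideal A} (d : A → A) (hdI : ∀ x ∈ I, d x ∈ I)
    (h1 : ∀ x ∈ I, (p.factorial : A) * d x = x ^ p)
    (h2 : ∀ (a x : A), x ∈ I → d (a * x) = a ^ p * d x)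
    (h3 : ∀ x ∈ I, ∀ y ∈ I, d (x + y) = d x + d y +
      ((Finset.antidiagonal p).filter fun k => 0 < k.1 ∧ 0 < k.2).sum
        fun k => Ring.inverse ((k.1.factorial * k.2.factorial : ℕ) : A) * x ^ k.1 * y ^ k.2) :
    ∃! γ : DividedPowers I, ∀ x ∈ I, γ.dpow p x = d x := by
  classical
  let γ : DividedPowers I :=
    { dpow := fun n x => if x ∈ I then G p d n x else 0
      dpow_null := fun hx => if_neg hx
      dpow_zero := fun hx => by simp only [if_pos hx, G_zero]
      dpow_one := fun hx => by simp only [if_pos hx, G_one hp hA]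
      dpow_mem := fun hn hx => by simp only [if_pos hx]; exact G_mem hp hA d hdI _ hn _ hx
      dpow_add := fun hx hy => by
        simp only [if_pos hx, if_pos hy, if_pos (I.add_mem hx hy)]
        exact G_add hp hA d hdI h1 h2 h3 _ _ hx _ hy
      dpow_mul := fun hx => by
        simp only [if_pos hx, if_pos (I.mul_mem_left _ hx)]
        exact G_smul hp hA d hdI h2 _ _ _ hx
      mul_dpow := fun hx => by
        simp only [if_pos hx]
        exact G_mul hp hA d hdI h1 _ _ _ rfl _ hx
      dpow_comp := fun hn hx => by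
        simp only [if_pos hx, if_pos (G_mem hp hA d hdI _ hn _ hx)]
        exact G_comp hp hA d hdI h1 h2 _ hn _ hx _ }
  have key : ∀ γ' : DividedPowers I, (∀ x ∈ I, γ'.dpow p x = d x) →
      ∀ n, ∀ x ∈ I, γ'.dpow n x = G p d n x := by
    intro γ' hγ' n
    induction n using Nat.strong_induction_on with
    | h n ih =>
      intro x hx
      rcases eq_or_ne n 0 with rfl | hn
      · rw [γ'.dpow_zero hx, G_zero]
      · apply (isUnit_c hp hA n).mul_left_cancel
        rw [dpow_step γ' hp n hx, G_step hp hA, hγ' x hx,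
          ih _ (Nat.div_lt_self (by omega) hp.one_lt) _ (hdI x hx)]
  refine ⟨γ, fun x hx => ?_, fun γ' hγ' => DividedPowers.ext _ _ fun {n x} hx => ?_⟩
  · show (if x ∈ I then G p d p x else 0) = d x
    rw [if_pos hx, G_prime hp hA]
  · rw [key γ' hγ' n x hx]
    exact (if_pos hx).symm

end Groth.Agent.DPow95.Prime
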