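import Mathlib.RingTheory.WittVector.Truncated
import Mathlib.RingTheory.Ideal.Quotient.Basic
import Mathlib.RingTheory.Ideal.Maps
import Mathlib.Algebra.BigOperators.Fin
import Mathlib.Algebra.CharP.Quotient
import Mathlib.Tactic.Ring

/-!
# Elementary facts on `Σ pⁱ xᵢ^(p^(n-i))`
-/

universe u

namespace Groth.Agent.DPow95.WittTheta

variable (p : ℕ) [Fact p.Prime] (n : ℕ) {B : Type u} [CommRing B]

theorem ghost_eq (hp : (p : B) ^ n = 0) (x : WittVector p B) :
    WittVector.ghostComponent n x = ∑ i : Fin n, (p : B) ^ (i : ℕ) * (x.coeff i) ^ (p ^ (n - i)) := by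
  rw [WittVector.ghostComponent_apply, wittPolynomial_eq_sum_C_mul_X_pow, map_sum, Finset.sum_range_succ,
    ← Fin.sum_univ_eq_sum_range (fun i => MvPolynomial.aeval x.coeff
      (MvPolynomial.C ((p : ℤ) ^ i) * MvPolynomial.X i ^ p ^ (n - i)))]
  simp [hp]

/-- If Frobenius of `B / pB` is onto, every element has the form `Σ pⁱ xᵢ^(p^(n-i))`. -/
theorem exists_repr (hp : (p : B) ^ n = 0)
    (hF : Function.Surjective (fun y : B ⧸ (Ideal.span {(p : B)}) => y ^ p)) (b : B) :
    ∃ x : ℕ → B, b = ∑ i : Fin n, (p : B) ^ (i : ℕ) * (x i) ^ (p ^ (n - i)) := by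
  have hF' : ∀ (m : ℕ) (c : B), ∃ y c', c = y ^ p ^ m + (p : B) * c' := by
    intro m
    induction m with
    | zero => exact fun c => ⟨c, 0, by simp⟩
    | succ m ih =>
      intro c
      obtain ⟨y, c', rfl⟩ := ih c
      obtain ⟨z, hz⟩ := hF (Ideal.Quotient.mk _ y)
      obtain ⟨z, rfl⟩ := Ideal.Quotient.mk_surjective z
      obtain ⟨e, he⟩ := Ideal.mem_span_singleton'.1
        (Ideal.Quotient.eq.1 ((show Ideal.Quotient.mk _ y = Ideal.Quotient.mk _ (z ^ p) by
          rw [map_pow]; exact hz.symm)))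
      have hy : (p : B) ∣ y ^ p ^ m - (z ^ p) ^ p ^ m :=
        dvd_trans ⟨e, by rw [← he, mul_comm]⟩ (sub_dvd_pow_sub_pow _ _ _)
      obtain ⟨f, hf⟩ := hy
      exact ⟨z, c' + f, by rw [pow_succ', pow_mul, mul_add, ← hf]; ring⟩
  suffices H : ∀ k ≤ n, ∃ (x : ℕ → B) (r : B),
      b = (∑ i : Fin k, (p : B) ^ (i : ℕ) * (x i) ^ (p ^ (n - i))) + (p : B) ^ k * r by
    obtain ⟨x, r, hx⟩ := H n le_rfl
    exact ⟨x, by rw [hx, hp, zero_mul, add_zero]⟩
  intro k hk
  induction k with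
  | zero => exact ⟨fun _ => 0, b, by simp⟩
  | succ k ih =>
    obtain ⟨x, r, hx⟩ := ih (Nat.le_of_succ_le hk)
    obtain ⟨y, c', rfl⟩ := hF' (n - k) r
    classical
    refine ⟨Function.update x k y, c', ?_⟩
    rw [hx, Fin.sum_univ_castSucc]
    simp only [Fin.val_castSucc, Fin.val_last, Function.update_self]
    have hu : ∀ i : Fin k, Function.update x k y (i : ℕ) = x i := fun i => Function.update_of_ne i.2.ne _ _
    simp only [hu]
    ring

theorem theta_surjective (hp : (p : B) ^ n = 0)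
    (hF : Function.Surjective (fun y : B ⧸ (Ideal.span {(p : B)}) => y ^ p))
    (θ : TruncatedWittVector p n (B ⧸ (Ideal.span {(p : B)})) →+* B)
    (hθ : ∀ x : WittVector p B, θ (WittVector.truncate n (WittVector.map (Ideal.Quotient.mk (Ideal.span {(p : B)})) x)) =
        ∑ i : Fin n, (p : B) ^ (i : ℕ) * (x.coeff i) ^ (p ^ (n - i))) :
    Function.Surjective θ := by
  intro b
  obtain ⟨x, hx⟩ := exists_repr p n hp hF b
  exact ⟨_, (hθ (WittVector.mk p x)).trans (by simpa using hx.symm)⟩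

/-- Zeroth component as a ring map. -/
noncomputable def coeff0 {C : Type u} [CommRing C] (hn : 0 < n) : TruncatedWittVector p n C →+* C :=
  RingHom.liftOfSurjective (WittVector.truncate n) (WittVector.truncate_surjective p n C)
    ⟨WittVector.constantCoeff, fun x hx => (WittVector.mem_ker_truncate _ x).1 hx 0 hn⟩

theorem coeff0_apply {C : Type u} [CommRing C] (hn : 0 < n) (a : TruncatedWittVector p n C) :
    coeff0 p n hn a = TruncatedWittVector.coeff ⟨0, hn⟩ a := by
  obtain ⟨x, rfl⟩ := WittVector.truncate_surjective p n C a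
  rw [coeff0, RingHom.liftOfRightInverse_comp_apply, WittVector.coeff_truncate]
  rfl

theorem exists_lift {I : Ideal B} (a : TruncatedWittVector p n (B ⧸ I)) :
    ∃ x : WittVector p B, WittVector.truncate n (WittVector.map (Ideal.Quotient.mk I) x) = a := by
  obtain ⟨y, rfl⟩ := WittVector.truncate_surjective p n _ a
  obtain ⟨x, rfl⟩ := WittVector.map_surjective (Ideal.Quotient.mk I) Ideal.Quotient.mk_surjective y
  exact ⟨x, rfl⟩

/-- `θ a ≡ a₀^(pⁿ)` modulo `p`. -/
theorem mk_theta (hn : 0 < n)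
    (θ : TruncatedWittVector p n (B ⧸ (Ideal.span {(p : B)})) →+* B)
    (hθ : ∀ x : WittVector p B, θ (WittVector.truncate n (WittVector.map (Ideal.Quotient.mk (Ideal.span {(p : B)})) x)) =
        ∑ i : Fin n, (p : B) ^ (i : ℕ) * (x.coeff i) ^ (p ^ (n - i)))
    (a : TruncatedWittVector p n (B ⧸ (Ideal.span {(p : B)}))) :
    Ideal.Quotient.mk (Ideal.span {(p : B)}) (θ a) = (TruncatedWittVector.coeff ⟨0, hn⟩ a) ^ (p ^ n) := by
  obtain ⟨x, rfl⟩ := exists_lift p n a
  obtain ⟨m, rfl⟩ : ∃ m, n = m + 1 := ⟨n - 1, by omega⟩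
  have hp0 : Ideal.Quotient.mk (Ideal.span {(p : B)}) (p : B) = 0 :=
    Ideal.Quotient.eq_zero_iff_mem.2 (Ideal.mem_span_singleton_self _)
  rw [hθ, WittVector.coeff_truncate, WittVector.map_coeff, map_sum, Fin.sum_univ_succ,
    Finset.sum_eq_zero (fun i _ => by rw [map_mul, map_pow, hp0, Fin.val_succ, zero_pow (Nat.succ_ne_zero _), zero_mul])]
  simp

end Groth.Agent.DPow95.WittTheta
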